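import Cfsg.Agent.Lib.Zassenhaus.Action

/-!
Consequences of Zassenhaus' theorem.
-/

set_option autoImplicit false
set_option linter.style.haveILetI false
set_option linter.unusedSectionVars false

namespace CfsgLib.Zassenhaus

universe u

variable {G : Type u} [Group G] [Finite G]

open Subgroup in
/-- Zassenhaus' theorem for fixed-point-free automorphism groups of arbitrary finite groups. -/
theorem zass_of_fpf_aut {K : Type*} [Group K] [Finite K] [Nontrivial K] [Nontrivial G] (φ : G →* MulAut K)
    (hf : ∀ g, g ≠ 1 → ∀ a, φ g a = a → a = 1) (hns : ¬ Group.IsSolvable G) : Zass G := by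
  let L := K ⋊[φ] G
  have : Finite L := Finite.of_equiv _ SemidirectProduct.equivProd.symm
  let N : Subgroup L := (SemidirectProduct.inl (φ := φ)).range
  let C : Subgroup L := (SemidirectProduct.inr (φ := φ)).range
  have hNn : N.Normal := by
    show (SemidirectProduct.inl (φ := φ)).range.Normal
    rw [SemidirectProduct.range_inl_eq_ker_rightHom]; infer_instance
  have hc : IsComplement' N C := by
    refine isComplement'_of_card_mul_and_disjoint ?_ ?_
    · rw [← Nat.card_congr (MonoidHom.ofInjective (f := (SemidirectProduct.inl : K →* L)) SemidirectProduct.inl_injective).toEquiv,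
        ← Nat.card_congr (MonoidHom.ofInjective (f := (SemidirectProduct.inr : G →* L)) SemidirectProduct.inr_injective).toEquiv,
        SemidirectProduct.card]
    · rw [disjoint_def]
      rintro _ ⟨a, rfl⟩ ⟨h, he⟩
      have h1 := congrArg SemidirectProduct.right he
      rw [SemidirectProduct.right_inr, SemidirectProduct.right_inl] at h1
      rw [← he, h1, map_one]
  have hN : N ≠ ⊥ := by
    obtain ⟨a, ha⟩ := exists_ne (1 : K)
    intro e
    exact ha (SemidirectProduct.inl_injective (φ := φ) (by
      rw [map_one]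
      exact Subgroup.mem_bot.mp (e ▸ (⟨a, rfl⟩ : SemidirectProduct.inl a ∈ N))))
  have hC : C ≠ ⊥ := by
    obtain ⟨a, ha⟩ := exists_ne (1 : G)
    intro e
    exact ha (SemidirectProduct.inr_injective (φ := φ) (by
      rw [map_one]
      exact Subgroup.mem_bot.mp (e ▸ (⟨a, rfl⟩ : SemidirectProduct.inr a ∈ C))))
  have hF : Cfsg.IsFrobeniusComplement C := by
    refine CfsgLib.Frob.frob_of_fpf hc hN hC ?_
    rintro _ ⟨h, rfl⟩ hne
    rw [Subgroup.eq_bot_iff_forall]
    rintro _ ⟨⟨a, rfl⟩, ha⟩
    have h1 := mem_centralizer_singleton_iff.mp ha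
    have h2 : (SemidirectProduct.inl (φ h a) : L) = SemidirectProduct.inl a := by
      rw [SemidirectProduct.inl_aut]
      calc _ = (SemidirectProduct.inl a * SemidirectProduct.inr h : L) * SemidirectProduct.inr h⁻¹ := by rw [h1]
        _ = SemidirectProduct.inl a := by rw [mul_assoc, ← map_mul, mul_inv_cancel, map_one, mul_one]
    rw [hf h (fun e => hne (by rw [e, map_one])) a (SemidirectProduct.inl_injective h2), map_one]
  exact zass_of_complement hF (MonoidHom.ofInjective SemidirectProduct.inr_injective) hns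

theorem perfect_solvable_subsingleton {Q : Type u} [Group Q] [Group.IsSolvable Q] (h : commutator Q = ⊤) :
    Subsingleton Q := by
  by_contra hn
  rw [not_subsingleton_iff_nontrivial] at hn
  exact (Group.IsSolvable.commutator_lt_top_of_nontrivial Q).ne h

theorem perfect_quotient (N : Subgroup G) [N.Normal] (h : commutator G = ⊤) : commutator (G ⧸ N) = ⊤ := by
  rw [eq_top_iff, ← Subgroup.map_top_of_surjective (QuotientGroup.mk' N) (QuotientGroup.mk'_surjective N), ← h]
  exact (Subgroup.map_commutator _ _ _).le.trans (Subgroup.commutator_mono le_top le_top)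

/-- A perfect group with Zassenhaus' structure is `SL(2,5)`. -/
theorem Zass.perfect (hz : Zass G) (h : commutator G = ⊤) :
    Nonempty (G ≃* Matrix.SpecialLinearGroup (Fin 2) (ZMod 5)) := by
  obtain ⟨I, M, hI, hM, ⟨e⟩, -, -, hidx, hcyc, -⟩ := hz
  haveI := hI
  haveI := hM
  have h1 : I ⊔ M = ⊤ := by
    haveI : Group.IsSolvable (G ⧸ (I ⊔ M)) := isSolvable_of_card_le (by
      rw [← Subgroup.index_eq_card]; omega)
    haveI := perfect_solvable_subsingleton (perfect_quotient (I ⊔ M) h)
    rw [← Subgroup.index_eq_one, Subgroup.index_eq_card, Nat.card_eq_one_iff_unique]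
    exact ⟨this, ⟨1⟩⟩
  haveI : IsZGroup M := ⟨fun p hp P => @hcyc p ⟨hp⟩ P⟩
  have h2 : I = ⊤ := by
    haveI : Group.IsSolvable (G ⧸ I) := Group.isSolvable_of_surjective (f := (QuotientGroup.mk' I).comp M.subtype) (by
      intro q
      obtain ⟨g, rfl⟩ := QuotientGroup.mk'_surjective I q
      have hg : g ∈ ((I ⊔ M : Subgroup G) : Set G) := h1 ▸ Set.mem_univ g
      rw [Subgroup.normal_mul] at hg
      obtain ⟨i, hi, m, hm, rfl⟩ := hg
      refine ⟨⟨m, hm⟩, ?_⟩
      show QuotientGroup.mk' I m = _
      rw [map_mul, (QuotientGroup.eq_one_iff i).mpr hi |> fun (e : (i : G ⧸ I) = 1) => show QuotientGroup.mk' I i = 1 from e,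
        one_mul])
    haveI := perfect_solvable_subsingleton (perfect_quotient I h)
    rw [← Subgroup.index_eq_one, Subgroup.index_eq_card, Nat.card_eq_one_iff_unique]
    exact ⟨this, ⟨1⟩⟩
  exact ⟨((MulEquiv.subgroupCongr h2).trans Subgroup.topEquiv).symm.trans e⟩

/-- Sums over powers vanish in a domain. -/
theorem geom_zero {D : Type*} [Ring D] [IsDomain D] {a : D} {n : ℕ} (ha : a ≠ 1) (hn : a ^ n = 1) :
    ∑ i ∈ Finset.range n, a ^ i = 0 := by
  have h := mul_geom_sum a n
  rw [hn, sub_self] at h
  exact (mul_eq_zero.mp h).resolve_left (sub_ne_zero.mpr ha)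

/-- A finite multiplicative group in a division ring of positive characteristic is commutative. -/
theorem comm_of_charP {D : Type*} [DivisionRing D] {p : ℕ} [Fact p.Prime] [CharP D p] (φ : G →* Dˣ) (a b : G) :
    (φ a : D) * (φ b : D) = (φ b : D) * (φ a : D) := by
  letI := ZMod.algebra D p
  let f : G →* D := (Units.coeHom D).comp φ
  let S : Subalgebra (ZMod p) D := Algebra.adjoin (ZMod p) (Set.range f)
  have hspan : Subalgebra.toSubmodule S = Submodule.span (ZMod p) (Set.range f) := by
    rw [Algebra.adjoin_eq_span, ← MonoidHom.coe_mrange, Submonoid.closure_eq, MonoidHom.coe_mrange]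
  haveI : Module.Finite (ZMod p) (Subalgebra.toSubmodule S) := by
    rw [hspan]; exact Module.Finite.span_of_finite _ (Set.finite_range f)
  haveI : Finite (Subalgebra.toSubmodule S) := Module.finite_of_finite (ZMod p)
  haveI : Finite S := Finite.of_equiv (Subalgebra.toSubmodule S) (Equiv.refl _)
  exact congrArg Subtype.val ((Finite.isDomain_to_isField S).mul_comm
    ⟨f a, Algebra.subset_adjoin ⟨a, rfl⟩⟩ ⟨f b, Algebra.subset_adjoin ⟨b, rfl⟩⟩)

/-- A finite non-solvable group in a division ring acts without fixed points on a finite abelian group. -/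
theorem zass_of_divisionRing {D : Type*} [DivisionRing D] (φ : G →* Dˣ) (hφ : Function.Injective φ)
    (hns : ¬ Group.IsSolvable G) : Zass G := by
  classical
  obtain ⟨p, hp⟩ := CharP.exists D
  rcases CharP.char_is_prime_or_zero D p with hpp | rfl
  · haveI := Fact.mk hpp
    refine (hns (Group.isSolvable_of_comm fun a b => hφ (Units.ext ?_))).elim
    rw [map_mul, map_mul, Units.val_mul, Units.val_mul]
    exact comm_of_charP φ a b
  haveI : CharZero D := CharP.charP_to_charZero D
  let f : G →* D := (Units.coeHom D).comp φ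
  let Λ : Submodule ℤ D := Submodule.span ℤ (Set.range f)
  haveI : Module.Finite ℤ Λ := Module.Finite.span_of_finite _ (Set.finite_range f)
  haveI : IsAddTorsionFree Λ := ⟨fun k hk a b e => Subtype.ext (by
    have h : k • (a : D) = k • (b : D) := congrArg Subtype.val e
    rw [nsmul_eq_mul, nsmul_eq_mul] at h
    exact mul_left_cancel₀ (Nat.cast_ne_zero.mpr hk) h)⟩
  haveI : Module.Free ℤ Λ := inferInstance
  have hmem : ∀ g : G, ∀ v ∈ Λ, f g * v ∈ Λ := fun g v hv => by
    induction hv using Submodule.span_induction with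
    | mem x hx => obtain ⟨h, rfl⟩ := hx; exact Submodule.subset_span ⟨g * h, map_mul f g h⟩
    | zero => rw [mul_zero]; exact Λ.zero_mem
    | add x y _ _ hx hy => rw [mul_add]; exact Λ.add_mem hx hy
    | smul c x _ hx => rw [mul_smul_comm]; exact Λ.smul_mem c hx
  let σ : G →* Module.End ℤ Λ :=
    { toFun := fun g => (LinearMap.mulLeft ℤ (f g)).restrict (hmem g)
      map_one' := LinearMap.ext fun v => Subtype.ext (by
        show f 1 * (v : D) = v
        rw [map_one, one_mul])
      map_mul' := fun g h => LinearMap.ext fun v => Subtype.ext (by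
        show f (g * h) * (v : D) = f g * (f h * v)
        rw [map_mul, mul_assoc]) }
  obtain ⟨r, hr1, hr⟩ := Nat.exists_infinite_primes (Nat.card G + 1)
  haveI := Fact.mk hr
  let n := Module.finrank ℤ Λ
  have hn : 0 < n := by
    haveI : Nontrivial Λ := ⟨⟨⟨f 1, Submodule.subset_span ⟨1, rfl⟩⟩, 0, fun e => one_ne_zero (α := D) (by
      have := congrArg Subtype.val e; simpa using this)⟩⟩
    exact Module.finrank_pos
  let bs := Module.finBasis ℤ Λ
  let ψ : G →* Matrix (Fin n) (Fin n) (ZMod r) :=
    ((Int.castRingHom (ZMod r)).mapMatrix : Matrix (Fin n) (Fin n) ℤ →+* _).toMonoidHom.comp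
      ((LinearMap.toMatrixAlgEquiv bs).toMonoidHom.comp σ)
  let α : G →* MulAut (Multiplicative (Fin n → ZMod r)) :=
    { toFun := fun g =>
        { toFun := fun v => Multiplicative.ofAdd ((ψ g).mulVec v.toAdd)
          invFun := fun v => Multiplicative.ofAdd ((ψ g⁻¹).mulVec v.toAdd)
          left_inv := fun v => by simp [Matrix.mulVec_mulVec, ← map_mul]
          right_inv := fun v => by simp [Matrix.mulVec_mulVec, ← map_mul]
          map_mul' := fun v w => by simp [Matrix.mulVec_add] }
      map_one' := MulEquiv.ext fun v => by simp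
      map_mul' := fun g h => MulEquiv.ext fun v => by simp [Matrix.mulVec_mulVec] }
  haveI : Nonempty (Fin n) := ⟨⟨0, hn⟩⟩
  refine zass_of_action α (fun g hg v hv => ?_) hns
  have hv' : (ψ g).mulVec v.toAdd = v.toAdd := congrArg Multiplicative.toAdd hv
  have hpow : ∀ i : ℕ, (ψ g ^ i).mulVec v.toAdd = v.toAdd := fun i => by
    induction i with
    | zero => simp
    | succ i ih => rw [pow_succ, ← Matrix.mulVec_mulVec, hv', ih]
  have hσ : ∑ i ∈ Finset.range (orderOf g), σ g ^ i = 0 := LinearMap.ext fun w => Subtype.ext (by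
    rw [LinearMap.sum_apply, AddSubmonoidClass.coe_finset_sum]
    have h0 : f g ≠ 1 := fun e => hg (hφ (Units.ext (by rw [map_one, Units.val_one]; exact e)))
    calc ∑ i ∈ Finset.range (orderOf g), (((σ g ^ i) w : Λ) : D)
        = ∑ i ∈ Finset.range (orderOf g), f g ^ i * (w : D) := Finset.sum_congr rfl fun i _ => by
          rw [← map_pow, ← map_pow]; rfl
      _ = _ := by
          rw [← Finset.sum_mul, geom_zero h0 (by rw [← map_pow, pow_orderOf_eq_one, map_one]), zero_mul]
          rfl)
  have hψ : ∑ i ∈ Finset.range (orderOf g), ψ g ^ i = 0 := by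
    have h := congrArg (fun x => (Int.castRingHom (ZMod r)).mapMatrix (LinearMap.toMatrixAlgEquiv bs x)) hσ
    simp only [map_sum, map_pow, map_zero] at h
    exact h
  have h2 : (orderOf g : ZMod r) • v.toAdd = 0 := by
    have := congrArg (fun x : Matrix (Fin n) (Fin n) (ZMod r) => x.mulVec v.toAdd) hψ
    simp only [Matrix.sum_mulVec, Matrix.zero_mulVec, hpow, Finset.sum_const, Finset.card_range] at this
    rwa [Nat.cast_smul_eq_nsmul]
  have h3 : (orderOf g : ZMod r) ≠ 0 := fun e => by
    rw [ZMod.natCast_eq_zero_iff] at e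
    have h5 := Nat.le_of_dvd (orderOf_pos g) e
    have h6 := Nat.le_of_dvd Nat.card_pos (orderOf_dvd_natCard g)
    omega
  have := (smul_eq_zero.mp h2).resolve_left h3
  exact Multiplicative.toAdd.injective this

end CfsgLib.Zassenhaus
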