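import Cfsg.Agent.Lib.Zassenhaus.Core
import Cfsg.Agent.Lib.CharTheory.Burnside

/-!
Zassenhaus' theorem: existence of the subgroup of type five in a non-solvable group.
-/

set_option autoImplicit false
set_option linter.style.haveILetI false
set_option linter.unusedSectionVars false

namespace CfsgLib.Zassenhaus

universe u

variable {r : ℕ} [Fact r.Prime] {G : Type u} [Group G] [Finite G] {V : Type*} [AddCommGroup V]
  [Module (AlgebraicClosure (ZMod r)) V] [FiniteDimensional (AlgebraicClosure (ZMod r)) V] [Nontrivial V]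
  {ρ : G →* Module.End (AlgebraicClosure (ZMod r)) V}

theorem small_two_primes : ∀ n < 25, 0 < n → ∃ p ∈ [2, 3, 5, 7, 11, 13, 17, 19, 23], ∃ q ∈ [2, 3, 5, 7, 11, 13, 17, 19, 23],
    ∃ a < 5, ∃ b < 5, n = p ^ a * q ^ b := by
  decide +kernel

theorem isSolvable_of_card_le {Q : Type u} [Group Q] [Finite Q] (h : Nat.card Q ≤ 24) : Group.IsSolvable Q := by
  obtain ⟨p, hp, q, hq, a, -, b, -, e⟩ := small_two_primes (Nat.card Q) (by omega) Nat.card_pos
  have hpr : ∀ m ∈ [2, 3, 5, 7, 11, 13, 17, 19, 23], Nat.Prime m := by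
    intro m hm
    fin_cases hm <;> norm_num
  exact CfsgLib.CharTheory.isSolvable_of_card_two_primes (hpr p hp) (hpr q hq) e

/-- A map separating the cosets of a subgroup bounds its index. -/
theorem index_le_of_separates (C : Subgroup G) {X : Type*} [Finite X] (φ : G → X)
    (h : ∀ g g', φ g = φ g' → g⁻¹ * g' ∈ C) : C.index ≤ Nat.card X := by
  rw [Subgroup.index_eq_card]
  refine Nat.card_le_card_of_injective (fun q => φ q.out) fun q q' e => ?_
  rw [← q.out_eq, ← q'.out_eq]
  exact Quotient.sound (QuotientGroup.leftRel_apply.mpr (h _ _ e))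

theorem commute_of_conj_eq {g g' a : G} (e : g * a * g⁻¹ = g' * a * g'⁻¹) : Commute (g⁻¹ * g') a :=
  calc g⁻¹ * g' * a = g⁻¹ * (g' * a * g'⁻¹) * g' := by group
    _ = g⁻¹ * (g * a * g⁻¹) * g' := by rw [e]
    _ = a * (g⁻¹ * g') := by group

theorem mem_centralizer_closure {S : Set G} {c : G} (h : ∀ s ∈ S, Commute c s) :
    c ∈ Subgroup.centralizer (Subgroup.closure S : Set G) := by
  rw [Subgroup.centralizer_closure, Subgroup.mem_centralizer_iff]
  exact fun s hs => (h s hs).eq.symm

theorem a4_count : Fintype.card {p : alternatingGroup (Fin 4) × alternatingGroup (Fin 4) //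
    Three p.1 ∧ Three p.2 ∧ Rel p.1 p.2} = 24 := by decide +kernel

/-- Without a subgroup of type five the group is solvable. -/
theorem Good.exists_five (hg : Good r ρ) (hns : ¬ Group.IsSolvable G) : ∃ I : Subgroup G, Poly I 5 := by
  by_contra hno
  haveI := Fact.mk Nat.prime_three
  have h3 : 3 ∣ Nat.card G := by
    by_contra h
    exact hns (hg.fpf.isSolvable_of_no_three h)
  obtain ⟨x, hx⟩ := exists_prime_orderOf_dvd_card' 3 h3
  let N := Subgroup.closure {g : G | orderOf g = 3}
  haveI hNn : N.Normal := closure_three_normal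
  let C := Subgroup.centralizer (N : Set G)
  haveI hCn : C.Normal := inferInstance
  have hxN : x ∈ N := Subgroup.subset_closure hx
  have finish : Group.IsSolvable C → C.index ≤ 24 → False := fun hC hi => by
    haveI := hC
    haveI : Group.IsSolvable (G ⧸ C) := isSolvable_of_card_le (by rwa [← Subgroup.index_eq_card])
    exact hns (Group.isSolvable_of_ker_le_range C.subtype (QuotientGroup.mk' C) (by simp))
  have hfC : Fpf (ρ.comp C.subtype) := hg.fpf.comp _ C.subtype_injective
  by_cases hA : ∀ y : G, orderOf y = 3 → y ∈ Subgroup.zpowers x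
  · -- a single subgroup of order three
    have hNle : N ≤ Subgroup.zpowers x := (Subgroup.closure_le _).mpr fun y hy => hA y hy
    have hxC : x ∈ C := mem_centralizer_closure fun s hs => by
      obtain ⟨i, rfl⟩ := hA s hs
      exact Commute.self_zpow x i
    have hcen : ∀ c : C, Commute (⟨x, hxC⟩ : C) c := fun c =>
      Subtype.ext (Subgroup.mem_centralizer_iff.mp c.2 x hxN)
    refine finish ?_ ?_
    · obtain ⟨P⟩ : Nonempty (Sylow 3 C) := inferInstance
      haveI hPc : IsCyclic P := hfC.isCyclic_of_odd (by norm_num) P.2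
      let _ : CommGroup (P : Subgroup C) := IsCyclic.commGroup
      let τ : C →* (P : Subgroup C) := MonoidHom.transfer (MonoidHom.id (P : Subgroup C))
      have hτ : (τ ⟨x, hxC⟩ : C) = (⟨x, hxC⟩ : C) ^ (P : Subgroup C).index := by
        rw [show τ ⟨x, hxC⟩ = _ from MonoidHom.transfer_eq_pow (MonoidHom.id (P : Subgroup C)) (⟨x, hxC⟩ : C)
          (fun k g0 _ => by rw [mul_assoc, ((hcen g0).pow_left k).eq, ← mul_assoc, inv_mul_cancel, one_mul])]
        rfl
      have hM3 : ¬ 3 ∣ Nat.card τ.ker := fun hd => by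
        obtain ⟨m, hm⟩ := exists_prime_orderOf_dvd_card' 3 hd
        have hm' : orderOf ((m : C) : G) = 3 := by rw [Subgroup.orderOf_coe, Subgroup.orderOf_coe, hm]
        have he : Subgroup.zpowers ((m : C) : G) = Subgroup.zpowers x :=
          Subgroup.eq_of_le_of_card_ge (Subgroup.zpowers_le.mpr (hA _ hm'))
            (by rw [Nat.card_zpowers, Nat.card_zpowers, hx, hm'])
        obtain ⟨i, hi⟩ : x ∈ Subgroup.zpowers ((m : C) : G) := he ▸ Subgroup.mem_zpowers x
        have hxk : (⟨x, hxC⟩ : C) ∈ τ.ker := by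
          rw [show (⟨x, hxC⟩ : C) = (m : C) ^ i from Subtype.ext hi.symm]
          exact zpow_mem m.2 i
        rw [MonoidHom.mem_ker] at hxk
        rw [hxk, OneMemClass.coe_one] at hτ
        have hd := orderOf_dvd_of_pow_eq_one hτ.symm
        rw [Subgroup.orderOf_mk, hx] at hd
        exact P.not_dvd_index hd
      haveI : Group.IsSolvable τ.ker :=
        (hfC.comp _ τ.ker.subtype_injective).isSolvable_of_no_three hM3
      exact Group.isSolvable_of_ker_le_range τ.ker.subtype τ (by simp)
    · refine (index_le_of_separates C (fun g => (⟨g * x * g⁻¹, hA _ (orderOf_conj.trans hx)⟩ : Subgroup.zpowers x))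
        fun g g' e => mem_centralizer_closure fun s hs => ?_).trans (by rw [Nat.card_zpowers, hx]; norm_num)
      obtain ⟨i, rfl⟩ := hA s hs
      exact (commute_of_conj_eq (congrArg Subtype.val e)).zpow_right i
  · -- the binary tetrahedral type
    push_neg at hA
    obtain ⟨y0, hy0, hy0x⟩ := hA
    have key : ∀ w : G, orderOf w = 3 → w ∉ Subgroup.zpowers x → R x w ∨ R x w⁻¹ := by
      intro w hw hwx
      have hm : ∀ s ∈ ({x, w} : Set G), s ∈ Subgroup.closure ({x, w} : Set G) := fun s hs => Subgroup.subset_closure hs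
      have hne : ¬ Commute x w := fun c => hwx (hg.fpf.mem_zpowers Nat.prime_three hx hw c)
      rcases hg.pair hx hw with h | ⟨f, -, hker⟩ | h
      · exact absurd (congrArg Subtype.val (h ⟨x, hm x (by simp)⟩ ⟨w, hm w (by simp)⟩)) hne
      · have hwi : w⁻¹ ∈ Subgroup.closure ({x, w} : Set G) := inv_mem (hm w (by simp))
        obtain ⟨tx, r1, i1⟩ := hg.data hker (hm x (by simp)) (hm w (by simp)) hx hw
        obtain ⟨-, r2, i2⟩ := hg.data hker (hm x (by simp)) hwi hx (by rw [orderOf_inv, hw])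
        obtain ⟨tw, -, -⟩ := hg.data hker (hm w (by simp)) (hm x (by simp)) hw hx
        have hinv : f ⟨w⁻¹, hwi⟩ = (f ⟨w, hm w (by simp)⟩)⁻¹ := by rw [← map_inv]; rfl
        rw [hinv] at r2 i2
        refine (a4_pair _ tx _ tw (fun e => hne (by rw [i1 e.symm])) fun e => hne ?_).imp r1.mp r2.mp
        rw [i2 (by rw [e, inv_inv])]; exact (Commute.refl w).inv_left
      · exact (hno ⟨_, h⟩).elim
    obtain ⟨y, hxy⟩ : ∃ y, R x y := (key y0 hy0 hy0x).elim (fun h => ⟨y0, h⟩) (fun h => ⟨y0⁻¹, h⟩)
    have hm : ∀ s ∈ ({x, y} : Set G), s ∈ Subgroup.closure ({x, y} : Set G) := fun s hs => Subgroup.subset_closure hs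
    obtain ⟨f, hs, hker⟩ : Poly (Subgroup.closure ({x, y} : Set G)) 4 := by
      rcases hg.pair hx hxy.2.1 with h | h | h
      · exact absurd (congrArg Subtype.val (h ⟨x, hm x (by simp)⟩ ⟨y, hm y (by simp)⟩)) (not_commute_of_R hxy)
      · exact h
      · exact (hno ⟨_, h⟩).elim
    have sub : ∀ w : G, R x w → w ∈ Subgroup.closure ({x, y} : Set G) := by
      intro w hxw
      have hm' : ∀ s ∈ ({x, y, w} : Set G), s ∈ Subgroup.closure ({x, y, w} : Set G) := fun s hs => Subgroup.subset_closure hs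
      rcases hg.triple hxy hxw with h | ⟨g, -, hgk⟩ | h
      · exact absurd (congrArg Subtype.val (h ⟨x, hm' x (by simp)⟩ ⟨y, hm' y (by simp)⟩)) (not_commute_of_R hxy)
      · obtain ⟨tx, r1, -⟩ := hg.data hgk (hm' x (by simp)) (hm' y (by simp)) hx hxy.2.1
        obtain ⟨ty, -, -⟩ := hg.data hgk (hm' y (by simp)) (hm' x (by simp)) hxy.2.1 hx
        obtain ⟨tw, -, hinj⟩ := hg.data hgk (hm' w (by simp)) (hm' y (by simp)) hxw.2.1 hxy.2.1
        obtain ⟨-, r2, -⟩ := hg.data hgk (hm' x (by simp)) (hm' w (by simp)) hx hxw.2.1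
        have ho : orderOf (⟨w, hm' w (by simp)⟩ : Subgroup.closure ({x, y, w} : Set G)) = 3 :=
          (Subgroup.orderOf_mk _ _).trans hxw.2.1
        have hoy : orderOf (⟨y, hm' y (by simp)⟩ : Subgroup.closure ({x, y, w} : Set G)) = 3 :=
          (Subgroup.orderOf_mk _ _).trans hxy.2.1
        rcases a4_rot _ tx _ ty (r1.mpr hxy) _ tw (r2.mpr hxw) with e | e | e
        · exact hinj e ▸ hm y (by simp)
        · rw [show w = x * y * x⁻¹ from congrArg Subtype.val (conj_map hgk (hg.uniqInv _) hoy ho e)]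
          exact mul_mem (mul_mem (hm x (by simp)) (hm y (by simp))) (inv_mem (hm x (by simp)))
        · have h := congrArg Subtype.val (conj_map hgk (hg.uniqInv _) (x := (⟨x, hm' x (by simp)⟩ : Subgroup.closure ({x, y, w} : Set G))⁻¹)
            hoy ho (by rw [map_inv, inv_inv]; exact e))
          rw [show w = x⁻¹ * y * x from h.trans (by simp)]
          exact mul_mem (mul_mem (inv_mem (hm x (by simp))) (hm y (by simp))) (hm x (by simp))
      · exact (hno ⟨_, h⟩).elim
    have hall : ∀ w : G, orderOf w = 3 → w ∈ Subgroup.closure ({x, y} : Set G) := fun w hw => by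
      by_cases hwx : w ∈ Subgroup.zpowers x
      · exact Subgroup.zpowers_le.mpr (hm x (by simp)) hwx
      · exact (key w hw hwx).elim (sub w) fun h => inv_mem_iff.mp (sub _ h)
    have hNT : N ≤ Subgroup.closure ({x, y} : Set G) := (Subgroup.closure_le _).mpr fun w hw => hall w hw
    have hyN : y ∈ N := Subgroup.subset_closure hxy.2.1
    refine finish ?_ ?_
    · refine hfC.isSolvable_of_no_three fun hd => ?_
      obtain ⟨c, hc⟩ := exists_prime_orderOf_dvd_card' 3 hd
      have hc' : orderOf (c : G) = 3 := by rw [Subgroup.orderOf_coe, hc]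
      have h1 := hg.fpf.mem_zpowers Nat.prime_three hc' hx (Subgroup.mem_centralizer_iff.mp c.2 x hxN).symm
      have h2 := hg.fpf.mem_zpowers Nat.prime_three hc' hxy.2.1 (Subgroup.mem_centralizer_iff.mp c.2 y hyN).symm
      obtain ⟨i, hi⟩ := h1
      obtain ⟨j, hj⟩ := h2
      refine not_commute_of_R hxy ?_
      rw [← hi, ← hj]
      exact Commute.zpow_zpow_self _ _ _
    · have hc : ∀ (g : G) (a : G), orderOf a = 3 → g * a * g⁻¹ ∈ Subgroup.closure ({x, y} : Set G) ∧ orderOf (g * a * g⁻¹) = 3 :=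
        fun g a ha => ⟨hall _ (orderOf_conj.trans ha), orderOf_conj.trans ha⟩
      refine (index_le_of_separates C (fun g => (⟨(f ⟨_, (hc g x hx).1⟩, f ⟨_, (hc g y hxy.2.1).1⟩),
        (hg.data hker (hc g x hx).1 (hc g y hxy.2.1).1 (hc g x hx).2 (hc g y hxy.2.1).2).1,
        (hg.data hker (hc g y hxy.2.1).1 (hc g x hx).1 (hc g y hxy.2.1).2 (hc g x hx).2).1,
        (hg.data hker (hc g x hx).1 (hc g y hxy.2.1).1 (hc g x hx).2 (hc g y hxy.2.1).2).2.1.mpr (hxy.conj g)⟩ :
          {p : alternatingGroup (Fin 4) × alternatingGroup (Fin 4) // Three p.1 ∧ Three p.2 ∧ Rel p.1 p.2}))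
        fun g g' e => ?_).trans (by rw [Nat.card_eq_fintype_card, a4_count])
      obtain ⟨e1, e2⟩ := Prod.ext_iff.mp (congrArg Subtype.val e)
      have c1 := commute_of_conj_eq ((hg.data hker _ _ (hc g x hx).2 (hc g' x hx).2).2.2 e1)
      have c2 := commute_of_conj_eq ((hg.data hker _ _ (hc g y hxy.2.1).2 (hc g' y hxy.2.1).2).2.2 e2)
      refine Subgroup.centralizer_le (show (N : Set G) ⊆ _ from hNT) (mem_centralizer_closure ?_)
      rintro s (rfl | rfl) <;> assumption

end CfsgLib.Zassenhaus
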