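import Cfsg.Agent.Lib.Zassenhaus.Structure
import Cfsg.Agent.Lib.Frobenius.Complement
import Cfsg.Agent.Lib.Frobenius.More

/-!
From a fixed-point-free action on an abelian group to a good representation, and Zassenhaus' theorem for
Frobenius complements.
-/

set_option autoImplicit false
set_option linter.style.haveILetI false
set_option linter.unusedSectionVars false

namespace CfsgLib.Zassenhaus

universe u

variable {G : Type u} [Group G] [Finite G]

/-- Zassenhaus' conclusion. -/
def Zass (G : Type u) [Group G] : Prop :=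
  ∃ I M : Subgroup G, I.Normal ∧ M.Normal ∧ Nonempty (I ≃* Matrix.SpecialLinearGroup (Fin 2) (ZMod 5)) ∧
    I ⊓ M = ⊥ ∧ (∀ s ∈ I, ∀ x ∈ M, s * x = x * s) ∧ ((I ⊔ M).index = 1 ∨ (I ⊔ M).index = 2) ∧
    (∀ (p : ℕ) [Fact p.Prime] (P : Sylow p M), IsCyclic P) ∧ (Nat.card M).Coprime 30

/-- A finite group acting without fixed points on a finite nontrivial abelian group has a fixed-point-free
representation in coprime characteristic. -/
theorem exists_rep {A : Type*} [CommGroup A] [Finite A] [Nontrivial A] (α : G →* MulAut A)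
    (hf : ∀ g : G, g ≠ 1 → ∀ a : A, α g a = a → a = 1) :
    ∃ (r : ℕ) (_ : Fact r.Prime) (n : ℕ) (ρ : G →* Module.End (AlgebraicClosure (ZMod r)) (Fin n → AlgebraicClosure (ZMod r))),
      0 < n ∧ Fpf ρ ∧ ¬ r ∣ Nat.card G := by
  classical
  obtain ⟨r, hr, hrA⟩ := Nat.exists_prime_and_dvd (n := Nat.card A) Finite.one_lt_card.ne'
  haveI := Fact.mk hr
  have hrG : ¬ r ∣ Nat.card G := by
    intro h
    obtain ⟨g, hg⟩ := exists_prime_orderOf_dvd_card' r h
    have hP : IsPGroup r (Subgroup.zpowers g) := IsPGroup.of_card (n := 1) (by rw [Nat.card_zpowers, hg, pow_one])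
    letI : MulAction (Subgroup.zpowers g) A := MulAction.compHom A (α.comp (Subgroup.zpowers g).subtype)
    have h1 := hP.card_modEq_card_fixedPoints A
    have h2 : MulAction.fixedPoints (Subgroup.zpowers g) A = {1} := by
      ext a
      refine ⟨fun ha => ?_, fun ha => ?_⟩
      · exact hf g (fun e => hr.ne_one (by rw [← hg, e, orderOf_one])) a (ha ⟨g, Subgroup.mem_zpowers g⟩)
      · rw [Set.mem_singleton_iff] at ha
        subst ha
        exact fun x => map_one (α x)
    rw [h2, Nat.card_coe_set_eq, Set.ncard_singleton] at h1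
    have h3 := h1.symm.trans ((Nat.modEq_zero_iff_dvd).mpr hrA)
    rw [Nat.modEq_zero_iff_dvd, Nat.dvd_one] at h3
    exact hr.ne_one h3
  let B : Subgroup A := (powMonoidHom r : A →* A).ker
  haveI : Module (ZMod r) (Additive B) := AddCommGroup.zmodModule fun x => by
    apply Additive.toMul.injective
    rw [toMul_nsmul, toMul_zero]
    exact Subtype.ext (by rw [SubmonoidClass.coe_pow]; exact x.toMul.2)
  have hmem : ∀ (g : G) (b : A), b ∈ B → α g b ∈ B := fun g b hb => by
    change (α g b) ^ r = 1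
    rw [← map_pow, show b ^ r = 1 from hb, map_one]
  let σ : G →* Module.End (ZMod r) (Additive B) :=
    { toFun := fun g => ((MonoidHom.toAdditive (((α g).toMonoidHom.comp B.subtype).codRestrict B
        fun b => hmem g b b.2)) : Additive B →+ Additive B).toZModLinearMap r
      map_one' := LinearMap.ext fun b => Additive.toMul.injective (Subtype.ext (by
        change α 1 (b.toMul : A) = (b.toMul : A)
        rw [map_one]; rfl))
      map_mul' := fun g h => LinearMap.ext fun b => Additive.toMul.injective (Subtype.ext (by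
        change α (g * h) (b.toMul : A) = α g (α h (b.toMul : A))
        rw [map_mul]; rfl)) }
  haveI : Module.Finite (ZMod r) (Additive B) := Module.Finite.of_finite
  let n := Module.finrank (ZMod r) (Additive B)
  let bs := Module.finBasis (ZMod r) (Additive B)
  let e := LinearMap.toMatrixAlgEquiv bs
  let ι : ZMod r →+* AlgebraicClosure (ZMod r) := algebraMap _ _
  let ρ : G →* Module.End (AlgebraicClosure (ZMod r)) (Fin n → AlgebraicClosure (ZMod r)) :=
    (Matrix.toLinAlgEquiv' : Matrix (Fin n) (Fin n) (AlgebraicClosure (ZMod r)) ≃ₐ[_] _).toMonoidHom.comp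
      ((ι.mapMatrix : Matrix (Fin n) (Fin n) (ZMod r) →+* _).toMonoidHom.comp (e.toMonoidHom.comp σ))
  haveI : Nontrivial B := by
    obtain ⟨a, ha⟩ := exists_prime_orderOf_dvd_card' r hrA
    refine ⟨⟨⟨a, by rw [MonoidHom.mem_ker, powMonoidHom_apply, ← ha, pow_orderOf_eq_one]⟩, 1, fun h => ?_⟩⟩
    rw [show a = 1 from congrArg Subtype.val h, orderOf_one] at ha
    exact hr.ne_one ha.symm
  refine ⟨r, ⟨hr⟩, n, ρ, Module.finrank_pos, fun g hg v hv => ?_, hrG⟩
  by_contra hv0
  have hv' : (ι.mapMatrix (e (σ g) - 1)).mulVec v = 0 := by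
    rw [map_sub, map_one, Matrix.sub_mulVec, Matrix.one_mulVec, sub_eq_zero]
    exact hv
  have hdet : ι ((e (σ g) - 1).det) = 0 := by
    rw [RingHom.map_det]
    exact Matrix.exists_mulVec_eq_zero_iff.mp ⟨v, hv0, hv'⟩
  rw [map_eq_zero_iff ι ι.injective] at hdet
  obtain ⟨w, hw0, hw⟩ := Matrix.exists_mulVec_eq_zero_iff.mpr hdet
  rw [Matrix.sub_mulVec, Matrix.one_mulVec, sub_eq_zero] at hw
  obtain ⟨b, hb⟩ : ∃ b : Additive B, ⇑(bs.repr b) = w := ⟨bs.equivFun.symm w, bs.equivFun.apply_symm_apply w⟩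
  have hfix : σ g b = b := by
    refine bs.repr.injective (DFunLike.coe_injective ?_)
    rw [← LinearMap.toMatrix_mulVec_repr bs bs (σ g) b, hb]
    exact hw
  have h1 : (b.toMul : A) = 1 := hf g hg _ (congrArg (fun x : Additive B => (x.toMul : A)) hfix)
  refine hw0 ?_
  rw [← hb, show b = 0 from Additive.toMul.injective (Subtype.ext h1), map_zero]
  rfl

/-- A non-solvable group acting without fixed points on an abelian group has a good representation. -/
theorem exists_good {A : Type*} [CommGroup A] [Finite A] [Nontrivial A] (α : G →* MulAut A)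
    (hf : ∀ g : G, g ≠ 1 → ∀ a : A, α g a = a → a = 1) (hns : ¬ Group.IsSolvable G) :
    ∃ (r : ℕ) (_ : Fact r.Prime) (n : ℕ) (ρ : G →* Module.End (AlgebraicClosure (ZMod r)) (Fin n → AlgebraicClosure (ZMod r))),
      0 < n ∧ Good r ρ := by
  obtain ⟨r, _, n, ρ, hn, hρ, hr⟩ := exists_rep α hf
  haveI : Nonempty (Fin n) := ⟨⟨0, hn⟩⟩
  have h3 : 3 ∣ Nat.card G := by
    by_contra h
    exact hns (hρ.isSolvable_of_no_three h)
  have h2 : 2 ∣ Nat.card G := by
    by_contra h
    haveI : IsZGroup G := ⟨fun p hp P => by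
      haveI := Fact.mk hp
      by_cases hp2 : p = 2
      · subst hp2
        obtain ⟨j, hj⟩ := P.2.exists_card_eq
        have h1 : j = 0 := by
          by_contra h'
          exact h (dvd_trans (hj ▸ dvd_pow_self 2 h') (P : Subgroup G).card_subgroup_dvd_card)
        rw [h1, pow_zero] at hj
        haveI := (Nat.card_eq_one_iff_unique.mp hj).1
        exact isCyclic_of_subsingleton
      · exact hρ.isCyclic_of_odd hp2 P.2⟩
    exact hns inferInstance
  have key : ∀ q : ℕ, q.Prime → q ∣ Nat.card G → (q : AlgebraicClosure (ZMod r)) ≠ 0 := fun q hq hqG e => by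
    haveI : CharP (AlgebraicClosure (ZMod r)) r := charP_of_injective_algebraMap (algebraMap (ZMod r) (AlgebraicClosure (ZMod r))).injective r
    rw [CharP.cast_eq_zero_iff (AlgebraicClosure (ZMod r)) r, Nat.prime_dvd_prime_iff_eq Fact.out hq] at e
    exact hr (e ▸ hqG)
  exact ⟨r, inferInstance, n, ρ, hn, hρ, hr, by exact_mod_cast key 2 Nat.prime_two h2, by exact_mod_cast key 3 Nat.prime_three h3⟩

/-- Zassenhaus' theorem for groups acting without fixed points on an abelian group. -/
theorem zass_of_action {A : Type*} [CommGroup A] [Finite A] [Nontrivial A] (α : G →* MulAut A)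
    (hf : ∀ g : G, g ≠ 1 → ∀ a : A, α g a = a → a = 1) (hns : ¬ Group.IsSolvable G) : Zass G := by
  obtain ⟨r, _, n, ρ, hn, hg⟩ := exists_good α hf hns
  haveI : Nonempty (Fin n) := ⟨⟨0, hn⟩⟩
  exact hg.zassenhaus hns

/-- A Frobenius complement acts without fixed points on an abelian group. -/
theorem exists_action_of_complement {L : Type*} [Group L] [Finite L] {H : Subgroup L}
    (hH : Cfsg.IsFrobeniusComplement H) {G : Type*} [Group G] (e : G ≃* H) :
    ∃ (V : Subgroup L) (_ : IsMulCommutative V) (α : G →* MulAut V),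
      V ≠ ⊥ ∧ ∀ g : G, g ≠ 1 → ∀ a : V, α g a = a → a = 1 := by
  obtain ⟨N, -, hNn, hcN⟩ := CfsgLib.Frob.exists_kernel hH
  obtain ⟨V, hVc, hV1, hHV, hfpf⟩ := CfsgLib.Frob.exists_abelian_module hcN (CfsgLib.Frob.kernel_ne_bot hH hcN) hH.1
    fun h hh h1 => CfsgLib.Frob.fpf_of_frob hcN.disjoint hH hh h1
  refine ⟨V, hVc, V.normalizerMonoidHom.comp ((Subgroup.inclusion hHV).comp e.toMonoidHom), hV1, fun g hg a ha => ?_⟩
  have h1 : ((e g : H) : L) * (a : L) * ((e g : H) : L)⁻¹ = a := congrArg Subtype.val ha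
  have h2 : (a : L) ∈ V ⊓ Subgroup.centralizer {((e g : H) : L)} :=
    ⟨a.2, Subgroup.mem_centralizer_singleton_iff.mpr (mul_inv_eq_iff_eq_mul.mp h1).symm⟩
  rw [hfpf _ (e g).2 (fun e' => hg (e.injective (by rw [map_one]; exact Subtype.ext e'))), Subgroup.mem_bot] at h2
  exact Subtype.ext h2

open scoped IsMulCommutative in
/-- Zassenhaus' theorem for Frobenius complements. -/
theorem zass_of_complement {L : Type*} [Group L] [Finite L] {H : Subgroup L} (hH : Cfsg.IsFrobeniusComplement H)
    (e : G ≃* H) (hns : ¬ Group.IsSolvable G) : Zass G := by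
  obtain ⟨V, _, α, hV, hf⟩ := exists_action_of_complement hH e
  haveI : Nontrivial V := (Subgroup.nontrivial_iff_ne_bot V).mpr hV
  exact zass_of_action α hf hns

end CfsgLib.Zassenhaus
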