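import Mathlib

/-!
Identities between quadratic elements of a ring with scalar anticommutators.
-/

set_option autoImplicit false
set_option linter.unusedSimpArgs false

namespace CfsgLib.Zassenhaus

variable {A : Type*} [Ring A]

/-- If the anticommutators of `X` with `Y` and with `Z` are central, `X` commutes with that of `Y` and `Z`. -/
theorem commute_anti {X Y Z a b : A} (ha : X * Y + Y * X = a) (hb : X * Z + Z * X = b)
    (ca : ∀ u : A, u = Y ∨ u = Z → a * u = u * a) (cb : ∀ u : A, u = Y ∨ u = Z → b * u = u * b) :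
    X * (Y * Z + Z * Y) = (Y * Z + Z * Y) * X := by
  have h1 : X * Y = a - Y * X := eq_sub_of_add_eq ha
  have h2 : X * Z = b - Z * X := eq_sub_of_add_eq hb
  have e1 : X * Y * Z = a * Z - Y * b + Y * Z * X := by
    rw [h1, sub_mul, mul_assoc Y X Z, h2]; noncomm_ring
  have e2 : X * Z * Y = b * Y - Z * a + Z * Y * X := by
    rw [h2, sub_mul, mul_assoc Z X Y, h1]; noncomm_ring
  rw [mul_add, ← mul_assoc, ← mul_assoc, e1, e2, ca Z (Or.inr rfl), cb Y (Or.inl rfl)]
  noncomm_ring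

/-- The anticommutator commutes with either entry when both squares are central. -/
theorem commute_anti_self {X Y : A} {k : ℤ} (hX : X * X = (k : A)) :
    X * (X * Y + Y * X) = (X * Y + Y * X) * X := by
  rw [mul_add, add_mul, ← mul_assoc X X Y, mul_assoc Y X X, hX, Int.cast_comm]
  noncomm_ring

/-- Six anticommutators equal to `-2` among four square roots of `-3`. -/
theorem six_config {X Y Z W : A} (hX : X * X = -3) (hY : Y * Y = -3) (hZ : Z * Z = -3) (hW : W * W = -3)
    (hXY : X * Y + Y * X = -2) (hXZ : X * Z + Z * X = -2) (hXW : X * W + W * X = -2)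
    (hYZ : Y * Z + Z * Y = -2) (hYW : Y * W + W * Y = -2) (hZW : Z * W + W * Z = -2)
    {Q U : A} (hQ : Q = (X - 1) * (Y - 1) * ((Z - 1) * (W - 1)) + (Z - 1) * (W - 1) * ((X - 1) * (Y - 1)) + 8)
    (hU : U = X - Y + Z - W) :
    U * U = -8 ∧ U * Q + Q * U = 0 ∧ Q * Q = 576 := by
  have two : (-2 : A) = (-2 : ℤ) • 1 := by norm_num
  have three : (-3 : A) = (-3 : ℤ) • 1 := by norm_num
  rw [three] at hX hY hZ hW
  rw [two] at hXY hXZ hXW hYZ hYW hZW
  have sq : ∀ S u : A, S * S = (-3 : ℤ) • 1 → S * (S * u) = (-3 : ℤ) • u := fun S u h => by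
    rw [← mul_assoc, h, smul_mul_assoc, one_mul]
  have sw : ∀ S T : A, S * T + T * S = (-2 : ℤ) • 1 → T * S = (-2 : ℤ) • 1 - S * T := fun S T h => eq_sub_of_add_eq' h
  have sw' : ∀ S T u : A, S * T + T * S = (-2 : ℤ) • 1 → T * (S * u) = (-2 : ℤ) • u - S * (T * u) := fun S T u h => by
    rw [← mul_assoc, sw S T h, sub_mul, smul_mul_assoc, one_mul, mul_assoc]
  have b0 := fun u => sq X u hX
  have c0 := fun u => sq Y u hY
  have d0 := fun u => sq Z u hZ
  have e0 := fun u => sq W u hW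
  have a1 := sw X Y hXY
  have a2 := sw X Z hXZ
  have a3 := sw X W hXW
  have a4 := sw Y Z hYZ
  have a5 := sw Y W hYW
  have a6 := sw Z W hZW
  have b1 := fun u => sw' X Y u hXY
  have b2 := fun u => sw' X Z u hXZ
  have b3 := fun u => sw' X W u hXW
  have b4 := fun u => sw' Y Z u hYZ
  have b5 := fun u => sw' Y W u hYW
  have b6 := fun u => sw' Z W u hZW
  have eight : (8 : A) = (8 : ℤ) • 1 := by norm_num
  have big : (576 : A) = (576 : ℤ) • 1 := by norm_num
  have hQn : Q = (2 : ℤ) • (X * (Y * (Z * W))) + (-2 : ℤ) • (X * (Z * W)) + (-2 : ℤ) • (Y * (Z * W))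
      + (-2 : ℤ) • (X * (Y * Z)) + (-2 : ℤ) • (X * (Y * W)) + (2 : ℤ) • (X * Y) + (2 : ℤ) • (Z * W)
      + (-2 : ℤ) • (X * Z) + (-2 : ℤ) • (Y * W) + (2 : ℤ) • (X * W) + (2 : ℤ) • (Y * Z)
      + (-6 : ℤ) • X + (-6 : ℤ) • W + (2 : ℤ) • Y + (2 : ℤ) • Z + (2 : ℤ) • (1 : A) := by
    rw [hQ, eight]
    simp only [mul_sub, sub_mul, mul_add, add_mul, mul_one, one_mul, mul_assoc, a1, a2, a3, a4, a5, a6,
      b0, c0, d0, e0, b1, b2, b3, b4, b5, b6, hX, hY, hZ, hW, mul_smul_comm, smul_mul_assoc, smul_sub, smul_add,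
      smul_smul]
    abel
  refine ⟨?_, ?_, ?_⟩
  · rw [hU, show (-8 : A) = (-8 : ℤ) • 1 by norm_num]
    simp only [mul_sub, sub_mul, mul_add, add_mul, a1, a2, a3, a4, a5, a6, hX, hY, hZ, hW]
    abel
  · rw [hU, hQn]
    simp only [mul_sub, sub_mul, mul_add, add_mul, mul_one, one_mul, mul_assoc, a1, a2, a3, a4, a5, a6,
      b0, c0, d0, e0, b1, b2, b3, b4, b5, b6, hX, hY, hZ, hW, mul_smul_comm, smul_mul_assoc, smul_sub, smul_add,
      smul_smul]
    abel
  · rw [hQn, big]
    simp only [mul_sub, sub_mul, mul_add, add_mul, mul_one, one_mul, mul_assoc, a1, a2, a3, a4, a5, a6,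
      b0, c0, d0, e0, b1, b2, b3, b4, b5, b6, hX, hY, hZ, hW, mul_smul_comm, smul_mul_assoc, smul_sub, smul_add,
      smul_smul]
    abel

/-- The twisted configuration: `Y` is a polynomial in the others, or the scalar is `2` and `W = Z`. -/
theorem twisted {k : Type*} [Field k] {B : Type*} [Ring B] [Algebra k B] (h2 : (2 : k) ≠ 0) (h3 : (3 : k) ≠ 0)
    {X Y Z W T : B} {c : k} (hX : X * X = (-3 : k) • 1) (hY : Y * Y = (-3 : k) • 1) (hZ : Z * Z = (-3 : k) • 1)
    (hW : W * W = (-3 : k) • 1)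
    (hXY : X * Y + Y * X = (-2 : k) • 1) (hXZ : X * Z + Z * X = (-2 : k) • 1) (hXW : X * W + W * X = (-2 : k) • 1)
    (hYZ : Y * Z + Z * Y = (-2 : k) • 1) (hYW : Y * W + W * Y = (-2 : k) • 1) (hZW : Z * W + W * Z = c • 1)
    (hT : (4 : k) • T = (X - 1) * Z * (-X - 1)) (hWT : W * T + T * W = (-2 : k) • 1) :
    (2 - c) • Y = c • (1 : B) - (2 : k) • (W * X - Z * X + Z * W) ∧ (c = 2 → W = Z) := by
  have sq : ∀ S u : B, S * S = (-3 : k) • 1 → S * (S * u) = (-3 : k) • u := fun S u h => by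
    rw [← mul_assoc, h, smul_mul_assoc, one_mul]
  have sw : ∀ (S T : B) (a : k), S * T + T * S = a • 1 → T * S = a • 1 - S * T := fun S T a h => eq_sub_of_add_eq' h
  have sw' : ∀ (S T u : B) (a : k), S * T + T * S = a • 1 → T * (S * u) = a • u - S * (T * u) := fun S T u a h => by
    rw [← mul_assoc, sw S T a h, sub_mul, smul_mul_assoc, one_mul, mul_assoc]
  have b0 := fun u => sq X u hX
  have c0 := fun u => sq Y u hY
  have d0 := fun u => sq Z u hZ
  have e0 := fun u => sq W u hW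
  have a1 := sw X Y _ hXY
  have a2 := sw X Z _ hXZ
  have a3 := sw X W _ hXW
  have a4 := sw Y Z _ hYZ
  have a5 := sw Y W _ hYW
  have a6 := sw Z W _ hZW
  have b1 := fun u => sw' X Y u _ hXY
  have b2 := fun u => sw' X Z u _ hXZ
  have b3 := fun u => sw' X W u _ hXW
  have b4 := fun u => sw' Y Z u _ hYZ
  have b5 := fun u => sw' Y W u _ hYW
  have b6 := fun u => sw' Z W u _ hZW
  have hE : W * ((X - 1) * Z * (-X - 1)) + (X - 1) * Z * (-X - 1) * W = (-8 : k) • 1 := by
    rw [← hT, mul_smul_comm, smul_mul_assoc, ← smul_add, hWT, smul_smul]; norm_num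
  simp only [mul_sub, sub_mul, mul_add, add_mul, mul_one, one_mul, mul_assoc, mul_neg, neg_mul, a1, a2, a3, a4, a5, a6,
    b0, c0, d0, e0, b1, b2, b3, b4, b5, b6, hX, hY, hZ, hW, mul_smul_comm, smul_mul_assoc, smul_sub, smul_add,
    smul_smul] at hE
  have hYE := congrArg (fun u => Y * u + u * Y) hE
  simp only [mul_sub, sub_mul, mul_add, add_mul, mul_one, one_mul, mul_assoc, mul_neg, neg_mul, a1, a2, a3, a4, a5, a6,
    b0, c0, d0, e0, b1, b2, b3, b4, b5, b6, hX, hY, hZ, hW, mul_smul_comm, smul_mul_assoc, smul_sub, smul_add,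
    smul_smul] at hYE
  have hmain : (2 - c) • Y = c • (1 : B) - (2 : k) • (W * X - Z * X + Z * W) := by
    simp only [a2, a3]
    refine smul_right_injective B (show (8 : k) ≠ 0 by rw [show (8 : k) = 2 * 2 * 2 by norm_num]; simp [h2]) ?_
    show (8 : k) • _ = (8 : k) • _
    linear_combination (norm := module) (2 : k) • hYE
  refine ⟨hmain, fun h => ?_⟩
  subst h
  have hEX := congrArg (fun u => u * X) hE
  simp only [mul_sub, sub_mul, mul_add, add_mul, mul_one, one_mul, mul_assoc, mul_neg, neg_mul, a1, a2, a3, a4, a5, a6,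
    b0, c0, d0, e0, b1, b2, b3, b4, b5, b6, hX, hY, hZ, hW, mul_smul_comm, smul_mul_assoc, smul_sub, smul_add,
    smul_smul] at hEX
  rw [sub_self, zero_smul] at hmain
  have h0 : (W - Z) * X = 0 := by
    simp only [a2, a3] at hmain
    simp only [sub_mul, a2, a3]
    refine smul_right_injective B (show (24 : k) ≠ 0 by rw [show (24 : k) = 2 * 2 * 2 * 3 by norm_num]; simp [h2, h3]) ?_
    show (24 : k) • _ = (24 : k) • (0 : B)
    linear_combination (norm := module) (18 : k) • hmain - (3 : k) • hEX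
  have h4 : (W - Z) * X * X = 0 := by rw [h0, zero_mul]
  rw [mul_assoc, hX, mul_smul_comm, mul_one, smul_eq_zero] at h4
  exact sub_eq_zero.mp (h4.resolve_left (neg_ne_zero.mpr h3))

end CfsgLib.Zassenhaus
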