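import Cfsg.Agent.Lib.Zassenhaus.TwoDim
import Cfsg.Agent.Lib.Zassenhaus.Algebra

/-!
Configurations of elements of order three with products of order four.
-/

set_option autoImplicit false
set_option linter.style.haveILetI false

namespace CfsgLib.Zassenhaus

variable {r : ℕ} [Fact r.Prime]


/-- Both of order three with product of order four. -/
def R {G : Type*} [Group G] (g h : G) : Prop := orderOf g = 3 ∧ orderOf h = 3 ∧ orderOf (g * h) = 4

theorem R.symm {G : Type*} [Group G] {g h : G} (e : R g h) : R h g :=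
  ⟨e.2.1, e.1, by rw [← e.2.2, show h * g = MulAut.conj g⁻¹ (g * h) by simp, MulEquiv.orderOf_eq]⟩

theorem R.conj {G : Type*} [Group G] {g h : G} (e : R g h) (a : G) : R (a * g * a⁻¹) (a * h * a⁻¹) := by
  have hc : ∀ b : G, orderOf (a * b * a⁻¹) = orderOf b := fun b => (MulAut.conj a).orderOf_eq b
  exact ⟨(hc g).trans e.1, (hc h).trans e.2.1, by
    rw [show a * g * a⁻¹ * (a * h * a⁻¹) = a * (g * h) * a⁻¹ by group, hc, e.2.2]⟩

/-- The three possible types of the groups considered. -/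
def Kind3 (H : Type*) [Group H] : Prop := (∀ a b : H, a * b = b * a) ∨ Poly H 4 ∨ Poly H 5

variable {G : Type*} [Group G] [Finite G] {V : Type*} [AddCommGroup V] [Module (AlgebraicClosure (ZMod r)) V] [FiniteDimensional (AlgebraicClosure (ZMod r)) V]
  [Nontrivial V] {ρ : G →* Module.End (AlgebraicClosure (ZMod r)) V}

theorem apply_inv_mem {U : Submodule (AlgebraicClosure (ZMod r)) V} {g : G} (h : ∀ v ∈ U, ρ g v ∈ U) : ∀ v ∈ U, ρ g⁻¹ v ∈ U := by
  have hp : ∀ n : ℕ, ∀ v ∈ U, ρ (g ^ n) v ∈ U := by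
    intro n
    induction n with
    | zero => intro v hv; rw [pow_zero, map_one]; exact hv
    | succ n ih => intro v hv; rw [pow_succ', map_mul]; exact h _ (ih v hv)
  rw [show g⁻¹ = g ^ (orderOf g - 1) from inv_eq_of_mul_eq_one_right (by
    rw [← pow_succ', Nat.sub_add_cancel (orderOf_pos g), pow_orderOf_eq_one])]
  exact hp _

theorem qd_apply_mem {U : Submodule (AlgebraicClosure (ZMod r)) V} {g : G} (h : ∀ v ∈ U, qd ρ g v ∈ U) (h2 : (2 : (AlgebraicClosure (ZMod r))) ≠ 0) :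
    ∀ v ∈ U, ρ g v ∈ U := by
  intro v hv
  have : ρ g v = (2 : (AlgebraicClosure (ZMod r)))⁻¹ • (qd ρ g v - v) := by
    rw [qd, LinearMap.add_apply, Module.End.one_apply, add_sub_cancel_right, LinearMap.smul_apply, smul_smul,
      inv_mul_cancel₀ h2, one_smul]
  rw [this]
  exact Submodule.smul_mem _ _ (sub_mem (h v hv) hv)

/-- Classification from a small invariant subspace. -/
theorem kind_of_small (h2 : (2 : (AlgebraicClosure (ZMod r))) ≠ 0) (h3 : (3 : (AlgebraicClosure (ZMod r))) ≠ 0) (hr : ¬ r ∣ Nat.card G) (hf : Fpf ρ) (S : Set G)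
    (hS : Subgroup.closure S = ⊤) (hord : ∀ s ∈ S, orderOf s = 3) {U : Submodule (AlgebraicClosure (ZMod r)) V} (hU0 : U ≠ ⊥)
    (hU : Module.finrank (AlgebraicClosure (ZMod r)) U ≤ 2) (hinv : ∀ s ∈ S, ∀ v ∈ U, qd ρ s v ∈ U) : Kind3 G := by
  have hall : ∀ g : G, ∀ v ∈ U, ρ g v ∈ U := by
    intro g
    have hg : g ∈ Subgroup.closure S := hS ▸ Subgroup.mem_top g
    induction hg using Subgroup.closure_induction with
    | mem s hs => exact qd_apply_mem (hinv s hs) h2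
    | one => intro v hv; rw [map_one]; exact hv
    | mul a b _ _ ha hb => intro v hv; rw [map_mul]; exact ha _ (hb v hv)
    | inv a _ ha => exact apply_inv_mem ha
  haveI : Nontrivial U := Submodule.nontrivial_iff_ne_bot.mpr hU0
  exact poly_of_small h2 h3 hr (hf.restrict U hall) S hS hord hU

theorem commute_self (hf : Fpf ρ) (h2 : (2 : (AlgebraicClosure (ZMod r))) ≠ 0) {g h : G} (hg : orderOf g = 3) :
    Commute (anti ρ g h) (ρ g) := by
  haveI : NeZero (2 : (AlgebraicClosure (ZMod r))) := ⟨h2⟩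
  refine commute_qd_iff.mp (Commute.symm ?_)
  refine commute_anti_self (k := -3) ?_
  rw [hf.qd_sq hg, Algebra.smul_def, mul_one]
  simp [map_ofNat]

theorem commute_common (hf : Fpf ρ) (h2 : (2 : (AlgebraicClosure (ZMod r))) ≠ 0) {x g h : G} (hg : R x g) (hh : R x h) :
    Commute (anti ρ g h) (ρ x) := by
  haveI : NeZero (2 : (AlgebraicClosure (ZMod r))) := ⟨h2⟩
  refine commute_qd_iff.mp (Commute.symm ?_)
  refine commute_anti (hf.anti_eq hg.1 hg.2.1 hg.2.2) (hf.anti_eq hh.1 hh.2.1 hh.2.2) ?_ ?_ <;>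
    exact fun u _ => by rw [smul_one_mul, mul_smul_comm, mul_one]

theorem smul_commute (c : (AlgebraicClosure (ZMod r))) (u : Module.End (AlgebraicClosure (ZMod r)) V) : Commute (c • (1 : Module.End (AlgebraicClosure (ZMod r)) V)) u :=
  (Commute.one_left u).smul_left c

/-- A group generated by two elements of order three. -/
theorem kind_pair (h2 : (2 : (AlgebraicClosure (ZMod r))) ≠ 0) (h3 : (3 : (AlgebraicClosure (ZMod r))) ≠ 0) (hr : ¬ r ∣ Nat.card G) (hf : Fpf ρ) {x y : G}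
    (hx : orderOf x = 3) (hy : orderOf y = 3) (hS : Subgroup.closure ({x, y} : Set G) = ⊤) : Kind3 G := by
  obtain ⟨W, hW, hW0, hsc⟩ := exists_scalar (ρ := ρ)
  haveI : Nontrivial W := Submodule.nontrivial_iff_ne_bot.mpr hW0
  have hf' := hf.restrict W hW
  obtain ⟨c, hc⟩ := hsc x y fun g => commute_of_closure (S := {x, y}) (by
    rintro s (rfl | rfl)
    · exact commute_self hf h2 hx
    · rw [anti_comm]; exact commute_self hf h2 hy) (hS ▸ Subgroup.mem_top g)
  obtain ⟨U, hU0, hU, iX, iY, -⟩ := exists_small h2 h3 (hf'.qd_sq hx) (hf'.qd_sq hy) (hf'.qd_sq hy) hc hc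
    (c := -6) ((congrArg₂ (· + ·) (hf'.qd_sq hy) (hf'.qd_sq hy)).trans (by module))
  exact kind_of_small h2 h3 hr hf' {x, y} hS (by rintro s (rfl | rfl) <;> assumption) hU0 hU
    (by rintro s (rfl | rfl) <;> assumption)

/-- A group generated by an element of order three and two of its neighbours. -/
theorem kind_triple (h2 : (2 : (AlgebraicClosure (ZMod r))) ≠ 0) (h3 : (3 : (AlgebraicClosure (ZMod r))) ≠ 0) (hr : ¬ r ∣ Nat.card G) (hf : Fpf ρ) {x y w : G}
    (hy : R x y) (hw : R x w) (hS : Subgroup.closure ({x, y, w} : Set G) = ⊤) : Kind3 G := by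
  obtain ⟨W, hW, hW0, hsc⟩ := exists_scalar (ρ := ρ)
  haveI : Nontrivial W := Submodule.nontrivial_iff_ne_bot.mpr hW0
  have hf' := hf.restrict W hW
  obtain ⟨c, hc⟩ := hsc y w fun g => commute_of_closure (S := {x, y, w}) (by
    rintro s (rfl | rfl | rfl)
    · exact commute_common hf h2 hy hw
    · exact commute_self hf h2 hy.2.1
    · rw [anti_comm]; exact commute_self hf h2 hw.2.1) (hS ▸ Subgroup.mem_top g)
  obtain ⟨U, hU0, hU, iX, iY, iW⟩ := exists_small h2 h3 (hf'.qd_sq hy.1) (hf'.qd_sq hy.2.1) (hf'.qd_sq hw.2.1)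
    (hf'.anti_eq hy.1 hy.2.1 hy.2.2) (hf'.anti_eq hw.1 hw.2.1 hw.2.2) hc
  exact kind_of_small h2 h3 hr hf' {x, y, w} hS
    (by rintro s (rfl | rfl | rfl); exacts [hy.1, hy.2.1, hw.2.1]) hU0 hU
    (by rintro s (rfl | rfl | rfl) <;> assumption)

/-- The twisted configuration. -/
theorem kind_twisted (h2 : (2 : (AlgebraicClosure (ZMod r))) ≠ 0) (h3 : (3 : (AlgebraicClosure (ZMod r))) ≠ 0) (hr : ¬ r ∣ Nat.card G) (hf : Fpf ρ) {x y z w : G}
    (hxy : R x y) (hxz : R x z) (hxw : R x w) (hyz : R y z) (hyw : R y w) (hrot : R w (x * z * x⁻¹))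
    (hS : Subgroup.closure ({x, y, z, w} : Set G) = ⊤) : w = z ∨ Kind3 G := by
  obtain ⟨W, hW, hW0, hsc⟩ := exists_scalar (ρ := ρ)
  haveI : Nontrivial W := Submodule.nontrivial_iff_ne_bot.mpr hW0
  obtain ⟨σ, hσ⟩ : ∃ σ, σ = restrictRep ρ W hW := ⟨_, rfl⟩
  have hf' : Fpf σ := hσ ▸ hf.restrict W hW
  obtain ⟨c, hc⟩ := hsc z w fun g => commute_of_closure (S := {x, y, z, w}) (by
    rintro s (rfl | rfl | rfl | rfl)
    · exact commute_common hf h2 hxz hxw
    · exact commute_common hf h2 hyz hyw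
    · exact commute_self hf h2 hxz.2.1
    · rw [anti_comm]; exact commute_self hf h2 hxw.2.1) (hS ▸ Subgroup.mem_top g)
  rw [← hσ] at hc
  have eT : (4 : (AlgebraicClosure (ZMod r))) • qd σ (x * z * x⁻¹) = (qd σ x - 1) * qd σ z * (-qd σ x - 1) := by
    have e1 : qd σ x - 1 = (2 : (AlgebraicClosure (ZMod r))) • σ x := add_sub_cancel_right _ _
    have e2 : -qd σ x - 1 = (2 : (AlgebraicClosure (ZMod r))) • σ x⁻¹ := by rw [← hf'.qd_inv hxy.1]; exact add_sub_cancel_right _ _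
    rw [e1, e2, qd, qd, map_mul, map_mul]
    simp only [smul_mul_assoc, mul_smul_comm, mul_add, add_mul, smul_add, smul_smul, mul_one]
    rw [← map_mul σ x x⁻¹, mul_inv_cancel, map_one]
    module
  obtain ⟨hY, hZ⟩ := twisted h2 h3 (hf'.qd_sq hxy.1) (hf'.qd_sq hxy.2.1) (hf'.qd_sq hxz.2.1) (hf'.qd_sq hxw.2.1)
    (hf'.anti_eq hxy.1 hxy.2.1 hxy.2.2) (hf'.anti_eq hxz.1 hxz.2.1 hxz.2.2) (hf'.anti_eq hxw.1 hxw.2.1 hxw.2.2)
    (hf'.anti_eq hyz.1 hyz.2.1 hyz.2.2) (hf'.anti_eq hyw.1 hyw.2.1 hyw.2.2) hc eT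
    (hf'.anti_eq hrot.1 hrot.2.1 hrot.2.2)
  by_cases hc2 : c = 2
  · refine Or.inl (hf'.injective ?_)
    have h := hZ hc2
    have := congrArg (fun u => (2 : (AlgebraicClosure (ZMod r)))⁻¹ • (u - 1)) h
    simpa [qd, smul_smul, inv_mul_cancel₀ h2] using this
  · refine Or.inr ?_
    obtain ⟨U, hU0, hU, iX, iZ, iW⟩ := exists_small h2 h3 (hf'.qd_sq hxy.1) (hf'.qd_sq hxz.2.1) (hf'.qd_sq hxw.2.1)
      (hf'.anti_eq hxz.1 hxz.2.1 hxz.2.2) (hf'.anti_eq hxw.1 hxw.2.1 hxw.2.2) hc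
    have hne : (2 : (AlgebraicClosure (ZMod r))) - c ≠ 0 := sub_ne_zero.mpr (Ne.symm hc2)
    have iY : ∀ v ∈ U, qd σ y v ∈ U := by
      intro v hv
      have e : qd σ y v = (2 - c)⁻¹ • (c • v - (2 : (AlgebraicClosure (ZMod r))) • (qd σ w (qd σ x v) - qd σ z (qd σ x v) + qd σ z (qd σ w v))) := by
        have h := LinearMap.congr_fun hY v
        simp only [LinearMap.smul_apply, LinearMap.sub_apply, LinearMap.add_apply, Module.End.mul_apply,
          Module.End.one_apply] at h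
        rw [← h, smul_smul, inv_mul_cancel₀ hne, one_smul]
      rw [e]
      exact Submodule.smul_mem _ _ (sub_mem (Submodule.smul_mem _ _ hv) (Submodule.smul_mem _ _
        (add_mem (sub_mem (iW _ (iX v hv)) (iZ _ (iX v hv))) (iZ _ (iW v hv)))))
    exact kind_of_small h2 h3 hr hf' {x, y, z, w} hS
      (by rintro s (rfl | rfl | rfl | rfl); exacts [hxy.1, hxy.2.1, hxz.2.1, hxw.2.1]) hU0 hU
      (by rintro s (rfl | rfl | rfl | rfl) <;> assumption)

/-- Six products of order four among four elements of order three are impossible. -/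
theorem six_false (h2 : (2 : (AlgebraicClosure (ZMod r))) ≠ 0) (h3 : (3 : (AlgebraicClosure (ZMod r))) ≠ 0) (hf : Fpf ρ) {x y z w : G} (hxy : R x y) (hxz : R x z)
    (hxw : R x w) (hyz : R y z) (hyw : R y w) (hzw : R z w) : False := by
  have cast : ∀ n : ℤ, (n : (AlgebraicClosure (ZMod r))) • (1 : Module.End (AlgebraicClosure (ZMod r)) V) = (n : Module.End (AlgebraicClosure (ZMod r)) V) := fun n => by
    rw [Int.cast_smul_eq_zsmul, zsmul_one]
  have c3 : ((-3 : (AlgebraicClosure (ZMod r))) • (1 : Module.End (AlgebraicClosure (ZMod r)) V)) = -3 := by simpa using cast (-3)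
  have c2 : ((-2 : (AlgebraicClosure (ZMod r))) • (1 : Module.End (AlgebraicClosure (ZMod r)) V)) = -2 := by simpa using cast (-2)
  have c4 : ((4 : (AlgebraicClosure (ZMod r))) • (1 : Module.End (AlgebraicClosure (ZMod r)) V)) = 4 := by simpa using cast 4
  have c8 : ((8 : (AlgebraicClosure (ZMod r))) • (1 : Module.End (AlgebraicClosure (ZMod r)) V)) = 8 := by simpa using cast 8
  obtain ⟨Q, hQ⟩ : ∃ Q, Q = (qd ρ x - 1) * (qd ρ y - 1) * ((qd ρ z - 1) * (qd ρ w - 1)) +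
      (qd ρ z - 1) * (qd ρ w - 1) * ((qd ρ x - 1) * (qd ρ y - 1)) + 8 := ⟨_, rfl⟩
  obtain ⟨U, hU⟩ : ∃ U, U = qd ρ x - qd ρ y + qd ρ z - qd ρ w := ⟨_, rfl⟩
  obtain ⟨hUU, hUQ, hQQ⟩ := six_config ((hf.qd_sq hxy.1).trans c3) ((hf.qd_sq hxy.2.1).trans c3)
    ((hf.qd_sq hxz.2.1).trans c3) ((hf.qd_sq hxw.2.1).trans c3)
    ((hf.anti_eq hxy.1 hxy.2.1 hxy.2.2).trans c2) ((hf.anti_eq hxz.1 hxz.2.1 hxz.2.2).trans c2)
    ((hf.anti_eq hxw.1 hxw.2.1 hxw.2.2).trans c2) ((hf.anti_eq hyz.1 hyz.2.1 hyz.2.2).trans c2)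
    ((hf.anti_eq hyw.1 hyw.2.1 hyw.2.2).trans c2) ((hf.anti_eq hzw.1 hzw.2.1 hzw.2.2).trans c2) hQ hU
  have h24 : (24 : (AlgebraicClosure (ZMod r))) ≠ 0 := by rw [show (24 : (AlgebraicClosure (ZMod r))) = 2 * 2 * 2 * 3 by norm_num]; simp [h2, h3]
  have hnotscalar : ∀ a : (AlgebraicClosure (ZMod r)), a ≠ 0 → Q ≠ a • 1 := by
    intro a ha e
    rw [e, mul_smul_comm, mul_one, smul_mul_assoc, one_mul, ← add_smul, smul_eq_zero] at hUQ
    have hU0 : U = 0 := hUQ.resolve_left (fun h => ha ((mul_eq_zero.mp ((two_mul a).trans h)).resolve_left h2))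
    rw [hU0, mul_zero] at hUU
    obtain ⟨v, hv⟩ := exists_ne (0 : V)
    have h := LinearMap.congr_fun (hUU.trans (congrArg Neg.neg c8.symm)) v
    rw [LinearMap.zero_apply, LinearMap.neg_apply, LinearMap.smul_apply, Module.End.one_apply, eq_comm, neg_eq_zero,
      smul_eq_zero] at h
    rcases h with h | h
    · rw [show (8 : (AlgebraicClosure (ZMod r))) = 2 * 2 * 2 by norm_num] at h; simp [h2] at h
    · exact hv h
  have hq : ∀ {g h : G}, R g h → ρ ((g * h)⁻¹) = -ρ (g * h) := by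
    intro g h hgh
    have e2 : orderOf ((g * h) ^ 2) = 2 := by rw [orderOf_pow' _ two_ne_zero, hgh.2.2]; rfl
    have e3 := hf.eq_neg_one e2
    rw [pow_two, map_mul] at e3
    calc ρ ((g * h)⁻¹) = -(ρ (g * h) * ρ (g * h)) * ρ ((g * h)⁻¹) := by rw [e3, neg_neg, one_mul]
      _ = -ρ (g * h) := by rw [neg_mul, mul_assoc, ← map_mul ρ _ (g * h)⁻¹, mul_inv_cancel, map_one, mul_one]
  obtain ⟨h, hh⟩ : ∃ h, h = x * y * (z * w) := ⟨_, rfl⟩
  have hQg : Q = (16 : (AlgebraicClosure (ZMod r))) • (ρ h + ρ h⁻¹) + (8 : (AlgebraicClosure (ZMod r))) • 1 := by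
    have e1 : ∀ g : G, qd ρ g - 1 = (2 : (AlgebraicClosure (ZMod r))) • ρ g := fun g => add_sub_cancel_right _ _
    rw [hQ, e1, e1, e1, e1, hh, mul_inv_rev, map_mul ρ (z * w)⁻¹, hq hxy, hq hzw, neg_mul_neg, c8]
    simp only [smul_mul_assoc, mul_smul_comm, smul_smul, map_mul]
    module
  obtain ⟨u, hu⟩ : ∃ u, Q u - (24 : (AlgebraicClosure (ZMod r))) • u ≠ 0 := by
    by_contra hc
    push Not at hc
    exact hnotscalar 24 h24 (LinearMap.ext fun v => sub_eq_zero.mp (hc v))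
  obtain ⟨v, hv⟩ : ∃ v, v = Q u - (24 : (AlgebraicClosure (ZMod r))) • u := ⟨_, rfl⟩
  have hQv : Q v = (-24 : (AlgebraicClosure (ZMod r))) • v := by
    rw [hv, map_sub, map_smul, ← Module.End.mul_apply, hQQ, show (576 : Module.End (AlgebraicClosure (ZMod r)) V) = (576 : (AlgebraicClosure (ZMod r))) • 1 by
      simpa using (cast 576).symm, LinearMap.smul_apply, Module.End.one_apply]
    module
  have hgv : ρ h v + ρ h⁻¹ v = (-2 : (AlgebraicClosure (ZMod r))) • v := by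
    rw [hQg, LinearMap.add_apply, LinearMap.smul_apply, LinearMap.smul_apply, Module.End.one_apply,
      LinearMap.add_apply] at hQv
    have h16 : (16 : (AlgebraicClosure (ZMod r))) ≠ 0 := by rw [show (16 : (AlgebraicClosure (ZMod r))) = 2 * 2 * 2 * 2 by norm_num]; simp [h2]
    refine smul_right_injective V h16 ?_
    show (16 : (AlgebraicClosure (ZMod r))) • _ = (16 : (AlgebraicClosure (ZMod r))) • _
    linear_combination (norm := module) hQv
  obtain ⟨u', hu'0, hu'⟩ : ∃ u' : V, u' ≠ 0 ∧ ρ h u' = -u' := by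
    by_cases h0 : ρ h v + v = 0
    · exact ⟨v, hv ▸ hu, eq_neg_of_add_eq_zero_left h0⟩
    · refine ⟨_, h0, ?_⟩
      have e := congrArg (ρ h) hgv
      rw [map_add, map_smul, ← Module.End.mul_apply (ρ h) (ρ h⁻¹), ← map_mul, mul_inv_cancel, map_one,
        Module.End.one_apply] at e
      rw [map_add]
      linear_combination (norm := module) e
  have e2 : orderOf ((x * y) ^ 2) = 2 := by rw [orderOf_pow' _ two_ne_zero, hxy.2.2]; rfl
  have ht := hf.eq_neg_one e2
  have heq : h = (x * y) ^ 2 := hf.eq_of_agree hu'0 (by rw [hu', ht]; rfl)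
  refine hnotscalar (-24) (neg_ne_zero.mpr h24) ?_
  rw [hQg, heq, ht, show ((x * y) ^ 2)⁻¹ = (x * y) ^ 2 from inv_eq_of_mul_eq_one_right (by
    have hp := pow_orderOf_eq_one ((x * y) ^ 2); rw [e2, pow_two] at hp; exact hp), ht]
  module

end CfsgLib.Zassenhaus
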