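import Mathlib

/-!
Fixed-point-free representations: elementary properties of elements of order two, three and of prime order.
-/

set_option autoImplicit false

namespace CfsgLib.Zassenhaus

variable {k : Type*} [Field k] {V : Type*} [AddCommGroup V] [Module k V] {G : Type*} [Group G]

/-- Only the identity fixes a nonzero vector. -/
def Fpf (ρ : G →* Module.End k V) : Prop := ∀ g : G, g ≠ 1 → ∀ v : V, ρ g v = v → v = 0

/-- The square root of `-3` attached to an element of order three. -/
def qd (ρ : G →* Module.End k V) (g : G) : Module.End k V := (2 : k) • ρ g + 1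

/-- The anticommutator of two of them. -/
def anti (ρ : G →* Module.End k V) (g h : G) : Module.End k V := qd ρ g * qd ρ h + qd ρ h * qd ρ g

variable {ρ : G →* Module.End k V}

theorem Fpf.comp (hf : Fpf ρ) {H : Type*} [Group H] (φ : H →* G) (hφ : Function.Injective φ) :
    Fpf (ρ.comp φ) := fun h h1 v hv => hf (φ h) (fun e => h1 (hφ (e.trans φ.map_one.symm))) v hv

theorem Fpf.eq_of_agree (hf : Fpf ρ) {g h : G} {v : V} (hv : v ≠ 0) (e : ρ g v = ρ h v) : g = h := by
  by_contra hne
  refine hv (hf (h⁻¹ * g) (fun e' => hne (inv_mul_eq_one.mp e').symm) v ?_)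
  rw [map_mul, Module.End.mul_apply, e, ← Module.End.mul_apply, ← map_mul, inv_mul_cancel, map_one]; rfl

theorem Fpf.injective [Nontrivial V] (hf : Fpf ρ) : Function.Injective ρ := fun g h e => by
  obtain ⟨v, hv⟩ := exists_ne (0 : V)
  exact hf.eq_of_agree hv (by rw [e])

theorem Fpf.eq_neg_one (hf : Fpf ρ) {g : G} (hg : orderOf g = 2) : ρ g = -1 := by
  ext v
  have h1 : g ≠ 1 := fun e => by rw [e, orderOf_one] at hg; omega
  have h2 : g * g = 1 := by rw [← pow_two, ← hg]; exact pow_orderOf_eq_one g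
  have h := hf g h1 (v + ρ g v) (by
    rw [map_add, ← Module.End.mul_apply, ← map_mul, h2, map_one, Module.End.one_apply, add_comm])
  rw [LinearMap.neg_apply, Module.End.one_apply]
  exact (eq_neg_of_add_eq_zero_right h)

theorem Fpf.involution_unique [Nontrivial V] (hf : Fpf ρ) {g h : G} (hg : orderOf g = 2) (hh : orderOf h = 2) :
    g = h := hf.injective (by rw [hf.eq_neg_one hg, hf.eq_neg_one hh])

theorem Fpf.sum_three (hf : Fpf ρ) {g : G} (hg : orderOf g = 3) : ρ g * ρ g = -ρ g - 1 := by
  ext v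
  have h1 : g ≠ 1 := fun e => by rw [e, orderOf_one] at hg; omega
  have h3 : g * (g * g) = 1 := by
    have := pow_orderOf_eq_one g; rwa [hg, pow_succ', pow_two] at this
  have h := hf g h1 (v + ρ g v + ρ (g * g) v) (by
    rw [map_add, map_add, ← Module.End.mul_apply, ← map_mul, ← Module.End.mul_apply (ρ g) (ρ (g * g)), ← map_mul,
      h3, map_one, Module.End.one_apply]
    abel)
  rw [← map_mul, LinearMap.sub_apply, LinearMap.neg_apply, Module.End.one_apply]
  rw [add_comm v, add_assoc, add_comm, add_comm v] at h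
  linear_combination (norm := module) h

theorem Fpf.qd_sq (hf : Fpf ρ) {g : G} (hg : orderOf g = 3) : qd ρ g * qd ρ g = (-3 : k) • 1 := by
  rw [qd]
  simp only [add_mul, mul_add, mul_one, one_mul, smul_mul_assoc, mul_smul_comm, hf.sum_three hg]
  module

theorem Fpf.qd_inv (hf : Fpf ρ) {g : G} (hg : orderOf g = 3) : qd ρ g⁻¹ = -qd ρ g := by
  have h : g⁻¹ = g * g := inv_eq_of_mul_eq_one_right (by
    have := pow_orderOf_eq_one g; rwa [hg, pow_succ', pow_two] at this)
  rw [qd, qd, h, map_mul, hf.sum_three hg]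
  module

theorem Fpf.anti_eq (hf : Fpf ρ) {g h : G} (hg : orderOf g = 3) (hh : orderOf h = 3) (hgh : orderOf (g * h) = 4) :
    anti ρ g h = (-2 : k) • 1 := by
  have e2 : orderOf ((g * h) ^ 2) = 2 := by
    rw [orderOf_pow' _ two_ne_zero, hgh]; rfl
  have q := hf.eq_neg_one e2
  have hgi : g⁻¹ = g * g := inv_eq_of_mul_eq_one_right (by
    have := pow_orderOf_eq_one g; rwa [hg, pow_succ', pow_two] at this)
  have hhi : h⁻¹ = h * h := inv_eq_of_mul_eq_one_right (by
    have := pow_orderOf_eq_one h; rwa [hh, pow_succ', pow_two] at this)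
  have e3 : ρ (g * h) * ρ (g * h) = -1 := by rw [← map_mul, ← pow_two]; exact q
  have e4 : ρ (g * h) = -ρ ((g * h)⁻¹) := by
    calc ρ (g * h) = ρ (g * h) * ρ (g * h) * ρ ((g * h)⁻¹) := by
          rw [mul_assoc, ← map_mul ρ (g * h) (g * h)⁻¹, mul_inv_cancel, map_one, mul_one]
      _ = -ρ ((g * h)⁻¹) := by rw [e3, neg_one_mul]
  rw [mul_inv_rev, hgi, hhi, map_mul, map_mul, map_mul ρ h h, map_mul ρ g g, hf.sum_three hg, hf.sum_three hh] at e4
  simp only [sub_mul, mul_sub, neg_mul, mul_neg, mul_one, one_mul] at e4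
  rw [anti, qd, qd]
  simp only [add_mul, mul_add, mul_one, one_mul, smul_mul_assoc, mul_smul_comm, smul_add, smul_smul]
  linear_combination (norm := module) (4 : k) • e4

theorem anti_comm (g h : G) : anti ρ g h = anti ρ h g := add_comm _ _

theorem commute_apply_inv {u : Module.End k V} {g : G} (h : Commute u (ρ g)) : Commute u (ρ g⁻¹) := by
  calc u * ρ g⁻¹ = ρ g⁻¹ * (ρ g * u) * ρ g⁻¹ := by
        rw [← mul_assoc, ← map_mul, inv_mul_cancel, map_one, one_mul]
    _ = ρ g⁻¹ * u := by rw [← h.eq, mul_assoc, mul_assoc, ← map_mul, mul_inv_cancel, map_one, mul_one]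

theorem commute_of_closure {u : Module.End k V} {S : Set G} (hS : ∀ s ∈ S, Commute u (ρ s)) {g : G}
    (hg : g ∈ Subgroup.closure S) : Commute u (ρ g) := by
  induction hg using Subgroup.closure_induction with
  | mem s hs => exact hS s hs
  | one => rw [map_one]; exact Commute.one_right u
  | mul a b _ _ ha hb => rw [map_mul]; exact ha.mul_right hb
  | inv a _ ha => exact commute_apply_inv ha

theorem commute_qd_iff [NeZero (2 : k)] {u : Module.End k V} {g : G} : Commute u (qd ρ g) ↔ Commute u (ρ g) := by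
  constructor
  · intro h
    have h' : Commute u ((2 : k) • ρ g) := by
      have := h.sub_right (Commute.one_right u)
      rwa [qd, add_sub_cancel_right] at this
    have := h'.smul_right (2 : k)⁻¹
    rwa [smul_smul, inv_mul_cancel₀ two_ne_zero, one_smul] at this
  · exact fun h => (h.smul_right _).add_right (Commute.one_right u)

/-- Commuting elements of the same prime order generate the same subgroup. -/
theorem Fpf.mem_zpowers [IsAlgClosed k] [FiniteDimensional k V] [Nontrivial V] (hf : Fpf ρ) {p : ℕ}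
    (hp : p.Prime) {a b : G} (ha : orderOf a = p) (hb : orderOf b = p) (hab : Commute a b) :
    b ∈ Subgroup.zpowers a := by
  obtain ⟨ζ, hζ⟩ := Module.End.exists_eigenvalue (ρ a)
  have hinv : ∀ v ∈ (ρ a).eigenspace ζ, ρ b v ∈ (ρ a).eigenspace ζ := fun v hv => by
    rw [Module.End.mem_eigenspace_iff] at hv ⊢
    rw [← Module.End.mul_apply, ← map_mul, hab.eq, map_mul, Module.End.mul_apply, hv, map_smul]
  haveI : Nontrivial ((ρ a).eigenspace ζ) := Submodule.nontrivial_iff_ne_bot.mpr hζ
  obtain ⟨ξ, hξ⟩ := Module.End.exists_eigenvalue ((ρ b).restrict hinv)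
  obtain ⟨w, hw⟩ := hξ.exists_hasEigenvector
  have hwb : ρ b w = ξ • (w : V) := congrArg Subtype.val hw.apply_eq_smul
  have hwa : ρ a w = ζ • (w : V) := Module.End.mem_eigenspace_iff.mp w.2
  have hw0 : (w : V) ≠ 0 := fun e => hw.2 (Subtype.ext e)
  have hpow : ∀ (g : G) (c : k), ρ g w = c • (w : V) → ∀ n : ℕ, ρ (g ^ n) w = c ^ n • (w : V) := by
    intro g c h n
    induction n with
    | zero => rw [pow_zero, map_one, pow_zero, one_smul]; rfl
    | succ n ih => rw [pow_succ, map_mul, Module.End.mul_apply, h, map_smul, ih, smul_smul, pow_succ']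
  have hone : ∀ c : k, c • (w : V) = w → c = 1 := fun c h => by
    have h' : (c - 1) • (w : V) = 0 := by rw [sub_smul, one_smul, h, sub_self]
    exact sub_eq_zero.mp ((smul_eq_zero.mp h').resolve_right hw0)
  have hζp : orderOf ζ = p := by
    haveI := Fact.mk hp
    refine orderOf_eq_prime (hone _ ?_) fun e => ?_
    · rw [← hpow a ζ hwa p, ← ha, pow_orderOf_eq_one, map_one]; rfl
    · refine hw0 (hf a (fun e' => hp.one_lt.ne' (by rw [← ha, e', orderOf_one])) _ ?_)
      rw [hwa]
      exact (congrArg (fun c : k => c • (w : V)) e).trans (one_smul k _)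
  have hξp : ξ ^ p = 1 := hone _ (by rw [← hpow b ξ hwb p, ← hb, pow_orderOf_eq_one, map_one]; rfl)
  haveI : NeZero p := ⟨hp.ne_zero⟩
  obtain ⟨i, -, hi⟩ := (IsPrimitiveRoot.iff_orderOf.mpr hζp).eq_pow_of_pow_eq_one hξp
  rw [hf.eq_of_agree hw0 (show ρ b w = ρ (a ^ i) w by rw [hwb, hpow a ζ hwa i, hi])]
  exact Subgroup.npow_mem_zpowers a i

/-- In a `p`-group all elements of order `p` lie in one cyclic subgroup. -/
theorem Fpf.mem_zpowers_pgroup [IsAlgClosed k] [FiniteDimensional k V] [Nontrivial V] (hf : Fpf ρ) [Finite G]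
    {p : ℕ} [Fact p.Prime] {P : Subgroup G} (hP : IsPGroup p P) {a b : G} (haP : a ∈ P) (hbP : b ∈ P)
    (ha : orderOf a = p) (hb : orderOf b = p) : b ∈ Subgroup.zpowers a := by
  have hpp : p.Prime := Fact.out
  haveI : Nontrivial P := ⟨⟨⟨a, haP⟩, 1, fun e => hpp.one_lt.ne' (by
    rw [← ha, show a = 1 from congrArg Subtype.val e, orderOf_one])⟩⟩
  haveI := hP.center_nontrivial
  obtain ⟨n, hn⟩ := (hP.to_subgroup (Subgroup.center P)).exists_card_eq
  have hn0 : n ≠ 0 := fun e => by
    have h1 := Finite.one_lt_card (α := Subgroup.center P)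
    rw [hn, e, pow_zero] at h1; omega
  obtain ⟨c, hc⟩ := exists_prime_orderOf_dvd_card' (G := Subgroup.center P) p (by
    rw [hn]; exact dvd_pow_self p hn0)
  have hco : orderOf ((c : P) : G) = p := by
    rw [Subgroup.orderOf_coe, Subgroup.orderOf_coe]; exact hc
  have hmem : ∀ g ∈ P, orderOf g = p → g ∈ Subgroup.zpowers ((c : P) : G) := fun g hg hgo =>
    hf.mem_zpowers hpp hco hgo (congrArg Subtype.val (Subgroup.mem_center_iff.mp c.2 ⟨g, hg⟩)).symm
  have : Subgroup.zpowers a = Subgroup.zpowers ((c : P) : G) :=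
    Subgroup.eq_of_le_of_card_ge (Subgroup.zpowers_le.mpr (hmem a haP ha)) (by
      rw [Nat.card_zpowers, Nat.card_zpowers, ha, hco])
  rw [this]; exact hmem b hbP hb

end CfsgLib.Zassenhaus
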