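import Mathlib
import Cfsg.Agent.Lib.Frobenius.UniqueSubgroup
import Cfsg.Agent.Lib.Zassenhaus.Rep
import Cfsg.Agent.S0071

/-!
A group with a fixed-point-free representation and no element of order three is solvable.
-/

set_option autoImplicit false
set_option linter.style.haveILetI false

namespace CfsgLib.Zassenhaus

universe u

variable {k : Type*} [Field k] [IsAlgClosed k] {V : Type*} [AddCommGroup V] [Module k V] [FiniteDimensional k V]
  [Nontrivial V] {G : Type u} [Group G] [Finite G] {ρ : G →* Module.End k V}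

theorem Fpf.uniqSub (hf : Fpf ρ) {p : ℕ} [hp : Fact p.Prime] {P : Subgroup G} (hP : IsPGroup p P) :
    CfsgLib.Frob.UniqSub p P := by
  intro A B hA hB
  haveI := isCyclic_of_prime_card hA
  haveI := isCyclic_of_prime_card hB
  obtain ⟨a, ha⟩ := IsCyclic.exists_generator (α := A)
  obtain ⟨b, hb⟩ := IsCyclic.exists_generator (α := B)
  have hao : orderOf ((a : P) : G) = p := by
    rw [Subgroup.orderOf_coe, Subgroup.orderOf_coe, orderOf_eq_card_of_forall_mem_zpowers ha, hA]
  have hbo : orderOf ((b : P) : G) = p := by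
    rw [Subgroup.orderOf_coe, Subgroup.orderOf_coe, orderOf_eq_card_of_forall_mem_zpowers hb, hB]
  obtain ⟨i, hi⟩ := hf.mem_zpowers_pgroup hP (a : P).2 (b : P).2 hao hbo
  have hba : (b : P) = (a : P) ^ i := Subtype.ext (by push_cast; exact hi.symm)
  have hBA : B ≤ A := fun x hx => by
    obtain ⟨j, hj⟩ := hb ⟨x, hx⟩
    rw [show x = (b : P) ^ j from congrArg Subtype.val hj.symm, hba]
    exact A.zpow_mem (A.zpow_mem a.2 i) j
  exact (Subgroup.eq_of_le_of_card_ge hBA (hA.le.trans hB.ge)).symm

theorem Fpf.isCyclic_of_odd (hf : Fpf ρ) {p : ℕ} [hp : Fact p.Prime] (hp2 : p ≠ 2) {P : Subgroup G}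
    (hP : IsPGroup p P) : IsCyclic P :=
  CfsgLib.Frob.isCyclic_of_uniq_odd hp2 hP (hf.uniqSub hP)

/-- An element of order prime to six normalizing a two-subgroup centralizes it. -/
theorem Fpf.centralizes (hf : Fpf ρ) {Q : Subgroup G} (hQ : IsPGroup 2 Q) {g : G}
    (hg : g ∈ Subgroup.normalizer (Q : Set G)) (ho : (orderOf g).Coprime 6) :
    g ∈ Subgroup.centralizer (Q : Set G) := by
  classical
  haveI := Fact.mk Nat.prime_two
  obtain ⟨a, x, hidx, hgen⟩ : ∃ a x : Q, (Subgroup.zpowers a = ⊤ ∨ (Subgroup.zpowers a).index = 2) ∧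
      Subgroup.closure {a, x} = ⊤ := by
    rcases CfsgLib.Frob.cyclic_or_quaternion_two hQ (hf.uniqSub hQ) with h | ⟨n, ⟨e⟩⟩
    · obtain ⟨a, ha⟩ := IsCyclic.exists_generator (α := Q)
      exact ⟨a, a, Or.inl (eq_top_iff.mpr fun y _ => ha y), eq_top_iff.mpr fun y _ => by
        rw [Set.pair_eq_singleton, ← Subgroup.zpowers_eq_closure]; exact ha y⟩
    · have hidx : (Subgroup.zpowers (e.symm (QuaternionGroup.a 1))).index = 2 := by
        haveI : NeZero (2 ^ n) := ⟨(pow_pos two_pos n).ne'⟩
        have h := (Subgroup.zpowers (e.symm (QuaternionGroup.a 1))).card_mul_index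
        rw [Nat.card_zpowers, MulEquiv.orderOf_eq, QuaternionGroup.orderOf_a_one, Nat.card_congr e.toEquiv,
          Nat.card_eq_fintype_card, QuaternionGroup.card] at h
        exact Nat.eq_of_mul_eq_mul_left (Nat.mul_pos two_pos (pow_pos two_pos n)) (h.trans (by ring))
      refine ⟨e.symm (QuaternionGroup.a 1), e.symm (QuaternionGroup.xa 0), Or.inr hidx, ?_⟩
      rw [eq_top_iff]
      intro y _
      have hle : Subgroup.zpowers (e.symm (QuaternionGroup.a 1)) ≤
          Subgroup.closure {e.symm (QuaternionGroup.a 1), e.symm (QuaternionGroup.xa 0)} :=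
        Subgroup.zpowers_le.mpr (Subgroup.subset_closure (by simp))
      by_cases hy : y ∈ Subgroup.zpowers (e.symm (QuaternionGroup.a 1))
      · exact hle hy
      · have hx : e.symm (QuaternionGroup.xa 0) ∉ Subgroup.zpowers (e.symm (QuaternionGroup.a 1)) := by
          intro hm
          obtain ⟨j, hj⟩ := (isOfFinOrder_of_finite (e.symm (QuaternionGroup.a 1))).mem_powers_iff_mem_zpowers.mpr hm
          have h := congrArg e hj
          simp only [map_pow, MulEquiv.apply_symm_apply, QuaternionGroup.a_one_pow] at h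
          cases h
        have h1 := (Subgroup.mul_mem_iff_of_index_two hidx).mpr (iff_of_false (fun h => hy (inv_mem_iff.mp h)) hx)
        have h2 := mul_mem (hle h1) (inv_mem (Subgroup.subset_closure
          (show e.symm (QuaternionGroup.xa 0) ∈ ({e.symm (QuaternionGroup.a 1), e.symm (QuaternionGroup.xa 0)} : Set Q) by simp)))
        rw [mul_assoc, mul_inv_cancel, mul_one] at h2
        exact inv_mem_iff.mp h2
  -- conjugation by `g`
  let c : MulAut Q := (MulAut.conjNormal (H := Q.subgroupOf (Subgroup.normalizer (Q : Set G)))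
    (⟨g, hg⟩ : Subgroup.normalizer (Q : Set G))) |> (MulAut.congr (Subgroup.subgroupOfEquivOfLe Subgroup.le_normalizer))
  have hc : ∀ y : Q, ((c y : Q) : G) = g * y * g⁻¹ := fun y => rfl
  have hpow : ∀ (m : ℕ) (y : Q), (((c ^ m) y : Q) : G) = g ^ m * y * (g ^ m)⁻¹ := by
    intro m
    induction m with
    | zero => intro y; simp
    | succ m ih =>
      intro y
      rw [pow_succ' c, MulAut.mul_apply, hc, ih, pow_succ']
      group
  have hcm : c ^ orderOf g = 1 := MulEquiv.ext fun y => Subtype.ext (by
    rw [hpow, pow_orderOf_eq_one, one_mul, inv_one, mul_one]; rfl)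
  have hco : (orderOf c).Coprime 6 := Nat.Coprime.coprime_dvd_left (orderOf_dvd_of_pow_eq_one hcm) ho
  -- the subgroup generated by `a` is invariant
  have hA : ∀ y ∈ Subgroup.zpowers a, c y ∈ Subgroup.zpowers a := by
    rcases hidx with h | h
    · intro y _; rw [h]; trivial
    let T := {H : Subgroup Q // H.index = 2}
    have hinj : Function.Injective fun H : T => ((a ∈ H.1 : Bool), (x ∈ H.1 : Bool)) := by
      intro H K e
      simp only [Prod.mk.injEq, decide_eq_decide] at e
      refine Subtype.ext (Subgroup.ext fun y => ?_)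
      have hy : y ∈ Subgroup.closure ({a, x} : Set Q) := hgen ▸ Subgroup.mem_top y
      induction hy using Subgroup.closure_induction with
      | mem s hs =>
        rcases hs with rfl | rfl
        · exact e.1
        · exact e.2
      | one => simp
      | mul p q _ _ hp hq =>
        exact (Subgroup.mul_mem_iff_of_index_two H.2).trans ((iff_congr hp hq).trans (Subgroup.mul_mem_iff_of_index_two K.2).symm)
      | inv p _ hp => exact inv_mem_iff.trans (hp.trans inv_mem_iff.symm)
    have hne : ∀ H : T, ((a ∈ H.1 : Bool), (x ∈ H.1 : Bool)) ≠ (true, true) := fun H e => by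
      simp only [Prod.mk.injEq, decide_eq_true_eq] at e
      have hle : Subgroup.closure ({a, x} : Set Q) ≤ H.1 := (Subgroup.closure_le _).mpr (by
        rintro s (rfl | rfl)
        exacts [e.1, e.2])
      rw [hgen] at hle
      have := H.2
      rw [top_le_iff.mp hle, Subgroup.index_top] at this
      omega
    have hcard : Nat.card T ≤ 3 := by
      refine (Nat.card_le_card_of_injective (fun H : T => (⟨_, hne H⟩ : {p : Bool × Bool // p ≠ (true, true)}))
        fun H K e => hinj (congrArg Subtype.val e)).trans (le_of_eq ?_)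
      rw [Nat.card_eq_fintype_card]; rfl
    let π : Equiv.Perm T :=
      { toFun := fun H => ⟨H.1.map c.toMonoidHom, (Subgroup.index_map_equiv H.1 c).trans H.2⟩
        invFun := fun H => ⟨H.1.map c.symm.toMonoidHom, (Subgroup.index_map_equiv H.1 c.symm).trans H.2⟩
        left_inv := fun H => Subtype.ext (by
          show (H.1.map _).map _ = H.1
          rw [Subgroup.map_map]
          convert Subgroup.map_id H.1 using 2
          exact MonoidHom.ext c.symm_apply_apply)
        right_inv := fun H => Subtype.ext (by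
          show (H.1.map _).map _ = H.1
          rw [Subgroup.map_map]
          convert Subgroup.map_id H.1 using 2
          exact MonoidHom.ext c.apply_symm_apply) }
    have hπpow : ∀ (m : ℕ) (H : T), ((π ^ m) H).1 = H.1.map (c ^ m).toMonoidHom := by
      intro m
      induction m with
      | zero => intro H; exact (Subgroup.map_id H.1).symm
      | succ m ih =>
        intro H
        rw [pow_succ', pow_succ' c, Equiv.Perm.mul_apply]
        show ((π ^ m) H).1.map c.toMonoidHom = _
        rw [ih, Subgroup.map_map]; rfl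
    have hπ : π = 1 := by
      have h1 : orderOf π ∣ orderOf c := orderOf_dvd_of_pow_eq_one (Equiv.ext fun H => Subtype.ext (by
        rw [hπpow, pow_orderOf_eq_one]; exact Subgroup.map_id H.1))
      have h2 : orderOf π ∣ 6 := by
        haveI := Fintype.ofFinite T
        refine (orderOf_dvd_natCard π).trans ?_
        rw [Nat.card_perm]
        exact Nat.factorial_dvd_factorial hcard
      exact orderOf_eq_one_iff.mp (Nat.eq_one_of_dvd_coprimes hco h1 h2)
    intro y hy
    have := congrArg (fun e : Equiv.Perm T => (e ⟨_, h⟩).1) hπ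
    exact (this : (Subgroup.zpowers a).map c.toMonoidHom = Subgroup.zpowers a).le (Subgroup.mem_map_of_mem _ hy)
  have hA' : ∀ (m : ℕ) (y : Q), y ∈ Subgroup.zpowers a → (c ^ m) y ∈ Subgroup.zpowers a := by
    intro m
    induction m with
    | zero => intro y hy; simpa using hy
    | succ m ih => intro y hy; rw [pow_succ', MulAut.mul_apply]; exact hA _ (ih y hy)
  -- it is fixed elementwise
  have hfix : c a = a := by
    let cA : MulAut (Subgroup.zpowers a) :=
      { toFun := fun y => ⟨c y, hA _ y.2⟩
        invFun := fun y => ⟨(c ^ (orderOf c - 1)) y, hA' _ _ y.2⟩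
        left_inv := fun y => Subtype.ext (by
          show (c ^ (orderOf c - 1)) (c (y : Q)) = y
          rw [← MulAut.mul_apply, ← pow_succ, Nat.sub_add_cancel (orderOf_pos c), pow_orderOf_eq_one]; rfl)
        right_inv := fun y => Subtype.ext (by
          show c ((c ^ (orderOf c - 1)) (y : Q)) = y
          rw [← MulAut.mul_apply, ← pow_succ', Nat.sub_add_cancel (orderOf_pos c), pow_orderOf_eq_one]; rfl)
        map_mul' := fun y z => Subtype.ext (map_mul c _ _) }
    have hp : ∀ (m : ℕ) y, (((cA ^ m) y : Subgroup.zpowers a) : Q) = (c ^ m) (y : Q) := by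
      intro m
      induction m with
      | zero => intro y; rfl
      | succ m ih => intro y; rw [pow_succ', pow_succ', MulAut.mul_apply, MulAut.mul_apply, ← ih]; rfl
    have h1 : orderOf cA ∣ orderOf c := orderOf_dvd_of_pow_eq_one (MulEquiv.ext fun y => Subtype.ext (by
      rw [hp, pow_orderOf_eq_one]; rfl))
    obtain ⟨j, hj⟩ := (hQ.to_subgroup (Subgroup.zpowers a)).exists_card_eq
    have h2 : orderOf cA ∣ 2 ^ j := by
      refine (orderOf_dvd_natCard cA).trans ?_
      rw [(inferInstance : IsCyclic (Subgroup.zpowers a)).card_mulAut, hj]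
      rcases Nat.eq_zero_or_pos j with rfl | hj0
      · simp
      · rw [Nat.totient_prime_pow Nat.prime_two hj0]
        simpa using pow_dvd_pow 2 (Nat.sub_le j 1)
    have h3 : cA = 1 := orderOf_eq_one_iff.mp (Nat.eq_one_of_dvd_coprimes
      (Nat.Coprime.pow_right j (Nat.Coprime.coprime_dvd_right (show 2 ∣ 6 by norm_num) hco)) h1 h2)
    exact congrArg Subtype.val (DFunLike.congr_fun h3 ⟨a, Subgroup.mem_zpowers a⟩)
  have hxfix : c x = x := by
    rcases hidx with h | h
    · obtain ⟨j, rfl⟩ : x ∈ Subgroup.zpowers a := h ▸ Subgroup.mem_top x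
      rw [map_zpow, hfix]
    obtain ⟨b, hb, hbx⟩ : ∃ b ∈ Subgroup.zpowers a, c x = x * b := by
      refine ⟨x⁻¹ * c x, ?_, (mul_inv_cancel_left _ _).symm⟩
      by_cases hx : x ∈ Subgroup.zpowers a
      · exact mul_mem (inv_mem hx) (hA x hx)
      · refine (Subgroup.mul_mem_iff_of_index_two h).mpr (iff_of_false (fun e => hx (inv_mem_iff.mp e)) fun e => hx ?_)
        have hne := hA' (orderOf c - 1) _ e
        rwa [← MulAut.mul_apply, ← pow_succ, Nat.sub_add_cancel (orderOf_pos c), pow_orderOf_eq_one] at hne
    have hbfix : c b = b := by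
      obtain ⟨j, rfl⟩ := hb
      rw [map_zpow, hfix]
    have hcm' : ∀ m : ℕ, (c ^ m) x = x * b ^ m := by
      intro m
      induction m with
      | zero => simp
      | succ m ih => rw [pow_succ', MulAut.mul_apply, ih, map_mul, map_pow, hbx, hbfix, mul_assoc, ← pow_succ']
    have h1 : b ^ orderOf c = 1 := by
      have := hcm' (orderOf c)
      rw [pow_orderOf_eq_one] at this
      exact (mul_left_cancel (this.symm.trans (mul_one x).symm))
    obtain ⟨j, hj⟩ := hQ.exists_card_eq
    have hb1 : b = 1 := orderOf_eq_one_iff.mp (Nat.eq_one_of_dvd_coprimes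
      (Nat.Coprime.pow_right j (Nat.Coprime.coprime_dvd_right (show 2 ∣ 6 by norm_num) hco))
      (orderOf_dvd_of_pow_eq_one h1) (hj ▸ orderOf_dvd_natCard b))
    rw [hbx, hb1, mul_one]
  rw [Subgroup.mem_centralizer_iff]
  intro y hy
  have hall : c ⟨y, hy⟩ = ⟨y, hy⟩ := by
    have hm : (⟨y, hy⟩ : Q) ∈ Subgroup.closure ({a, x} : Set Q) := hgen ▸ Subgroup.mem_top _
    have hle : Subgroup.closure ({a, x} : Set Q) ≤ c.toMonoidHom.eqLocus (MonoidHom.id Q) :=
      (Subgroup.closure_le _).mpr (by rintro s (rfl | rfl); exacts [hfix, hxfix])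
    exact hle hm
  have h := congrArg Subtype.val hall
  rw [hc] at h
  exact (mul_inv_eq_iff_eq_mul.mp h).symm

/-- Without elements of order three the group is solvable. -/
theorem Fpf.isSolvable_of_no_three (hf : Fpf ρ) (h3 : ¬ 3 ∣ Nat.card G) : Group.IsSolvable G := by
  haveI := Fact.mk Nat.prime_two
  obtain ⟨S⟩ : Nonempty (Sylow 2 G) := inferInstance
  obtain ⟨N, hN, hc⟩ := (Cfsg.Agent.S0071.result S).mpr fun Q hQ g hg ho => hf.centralizes (S.2.to_le hQ) hg (by
    rw [show (6 : ℕ) = 2 * 3 by norm_num]
    exact ho.mul_right (Nat.Coprime.symm ((Nat.prime_three.coprime_iff_not_dvd).mpr fun h =>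
      h3 (h.trans (orderOf_dvd_natCard g)))))
  have hodd : ¬ 2 ∣ Nat.card N := by
    rw [← hc.index_eq_card]
    exact S.not_dvd_index
  haveI : IsZGroup N := ⟨fun p hp P => by
    haveI := Fact.mk hp
    have hP : IsPGroup p ((P : Subgroup N).map N.subtype) := P.2.map _
    by_cases hp2 : p = 2
    · subst hp2
      obtain ⟨j, hj⟩ := P.2.exists_card_eq
      have h1 : j = 0 := by
        by_contra h
        exact hodd (dvd_trans (hj ▸ dvd_pow_self 2 h) (P : Subgroup N).card_subgroup_dvd_card)
      rw [h1, pow_zero] at hj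
      haveI := (Nat.card_eq_one_iff_unique.mp hj).1
      exact isCyclic_of_subsingleton
    · haveI := hf.isCyclic_of_odd hp2 hP
      exact isCyclic_of_surjective (((P : Subgroup N).equivMapOfInjective N.subtype N.subtype_injective).symm)
        (MulEquiv.surjective _)⟩
  haveI : Group.IsSolvable N := inferInstance
  haveI := hN
  have hq : IsPGroup 2 (G ⧸ N) := IsPGroup.of_surjective S.2 ((QuotientGroup.mk' N).comp (S : Subgroup G).subtype) (by
    intro q
    obtain ⟨g, rfl⟩ := QuotientGroup.mk'_surjective N q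
    obtain ⟨⟨n, s⟩, rfl⟩ := hc.2 g
    exact ⟨s, (QuotientGroup.eq.mpr (by have h := hN.conj_mem _ n.2 (s : G)⁻¹; rwa [inv_inv, mul_assoc] at h))⟩)
  haveI := hq.isNilpotent
  exact solvable_of_ker_le_range N.subtype (QuotientGroup.mk' N) (by simp)

end CfsgLib.Zassenhaus
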