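import Cfsg.Agent.Lib.Zassenhaus.Poly
import Cfsg.Agent.Lib.Zassenhaus.NoThree

/-!
Zassenhaus' theorem: a non-solvable group with a fixed-point-free representation has a normal subgroup
mapping onto `A₅` with kernel of order two which contains all elements of order three.
-/

set_option autoImplicit false
set_option linter.style.haveILetI false

namespace CfsgLib.Zassenhaus

universe u

variable {r : ℕ} [Fact r.Prime]

/-- The data of a fixed-point-free representation in good characteristic. -/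
structure Good (r : ℕ) [Fact r.Prime] {G : Type*} [Group G] {V : Type*} [AddCommGroup V]
    [Module (AlgebraicClosure (ZMod r)) V] (ρ : G →* Module.End (AlgebraicClosure (ZMod r)) V) : Prop where
  fpf : Fpf ρ
  not_dvd : ¬ r ∣ Nat.card G
  two : (2 : AlgebraicClosure (ZMod r)) ≠ 0
  three : (3 : AlgebraicClosure (ZMod r)) ≠ 0

variable {G : Type u} [Group G] [Finite G] {V : Type*} [AddCommGroup V] [Module (AlgebraicClosure (ZMod r)) V]
  [FiniteDimensional (AlgebraicClosure (ZMod r)) V] [Nontrivial V]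
  {ρ : G →* Module.End (AlgebraicClosure (ZMod r)) V}

theorem Good.subgroup (hg : Good r ρ) (H : Subgroup G) : Good r (ρ.comp H.subtype) :=
  ⟨hg.fpf.comp _ H.subtype_injective, fun h => hg.not_dvd (h.trans H.card_subgroup_dvd_card), hg.two, hg.three⟩

theorem Good.uniqInv (hg : Good r ρ) (H : Subgroup G) : UniqInv H := fun _ _ h1 h2 =>
  (hg.fpf.comp _ H.subtype_injective).involution_unique h1 h2

theorem closure_top (S : Set G) :
    Subgroup.closure ((Subtype.val : Subgroup.closure S → G) ⁻¹' S) = ⊤ := Subgroup.closure_closure_coe_preimage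

theorem R_coe {H : Subgroup G} {g h : H} : R (g : G) (h : G) ↔ R g h := R_map_iff H.subtype H.subtype_injective

theorem Good.pair (hg : Good r ρ) {x y : G} (hx : orderOf x = 3) (hy : orderOf y = 3) :
    Kind3 (Subgroup.closure ({x, y} : Set G)) := by
  refine kind_pair hg.two hg.three (hg.subgroup _).not_dvd (hg.subgroup _).fpf
    (x := ⟨x, Subgroup.subset_closure (by simp)⟩) (y := ⟨y, Subgroup.subset_closure (by simp)⟩)
    ((Subgroup.orderOf_mk _ _).trans hx) ((Subgroup.orderOf_mk _ _).trans hy) ?_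
  convert closure_top ({x, y} : Set G) using 2
  ext s; simp [Subtype.ext_iff]

theorem Good.triple (hg : Good r ρ) {x y w : G} (hy : R x y) (hw : R x w) :
    Kind3 (Subgroup.closure ({x, y, w} : Set G)) := by
  refine kind_triple hg.two hg.three (hg.subgroup _).not_dvd (hg.subgroup _).fpf
    (x := ⟨x, Subgroup.subset_closure (by simp)⟩) (y := ⟨y, Subgroup.subset_closure (by simp)⟩)
    (w := ⟨w, Subgroup.subset_closure (by simp)⟩) (R_coe.mp hy) (R_coe.mp hw) ?_
  convert closure_top ({x, y, w} : Set G) using 2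
  ext s; simp [Subtype.ext_iff]

theorem Good.four (hg : Good r ρ) {x y z w : G} (hxy : R x y) (hxz : R x z) (hxw : R x w) (hyz : R y z)
    (hyw : R y w) (hrot : R w (x * z * x⁻¹)) : w = z ∨ Kind3 (Subgroup.closure ({x, y, z, w} : Set G)) := by
  refine Or.imp_left (fun h => congrArg Subtype.val h) (kind_twisted hg.two hg.three (hg.subgroup _).not_dvd
    (hg.subgroup _).fpf
    (x := ⟨x, Subgroup.subset_closure (by simp)⟩) (y := ⟨y, Subgroup.subset_closure (by simp)⟩)
    (z := ⟨z, Subgroup.subset_closure (by simp)⟩) (w := ⟨w, Subgroup.subset_closure (by simp)⟩)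
    (R_coe.mp hxy) (R_coe.mp hxz) (R_coe.mp hxw) (R_coe.mp hyz) (R_coe.mp hyw) (R_coe.mp hrot) ?_)
  convert closure_top ({x, y, z, w} : Set G) using 2
  ext s; simp [Subtype.ext_iff]

/-- Transfer to a subgroup of type four or five. -/
theorem Good.data (hg : Good r ρ) {H : Subgroup G} {n : ℕ} {f : H →* alternatingGroup (Fin n)}
    (hker : ∀ h : H, f h = 1 ↔ h = 1 ∨ orderOf h = 2) {a b : G} (ha : a ∈ H) (hb : b ∈ H)
    (oa : orderOf a = 3) (ob : orderOf b = 3) :
    Three (f ⟨a, ha⟩) ∧ (Rel (f ⟨a, ha⟩) (f ⟨b, hb⟩) ↔ R a b) ∧ (f ⟨a, ha⟩ = f ⟨b, hb⟩ → a = b) := by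
  have oa' : orderOf (⟨a, ha⟩ : H) = 3 := (Subgroup.orderOf_mk _ _).trans oa
  have ob' : orderOf (⟨b, hb⟩ : H) = 3 := (Subgroup.orderOf_mk _ _).trans ob
  exact ⟨three_image hker oa', (rel_iff hker oa' ob').trans R_coe.symm,
    fun e => congrArg Subtype.val (eq_of_map_eq hker (hg.uniqInv H) oa' ob' e)⟩

theorem orderOf_conj {a b : G} : orderOf (a * b * a⁻¹) = orderOf b := (MulAut.conj a).orderOf_eq b

/-- A triangle generates a subgroup of type five. -/
theorem Good.five_of_triangle (hg : Good r ρ) {x y z : G} (hxy : R x y) (hxz : R x z) (hyz : R y z) :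
    Poly (Subgroup.closure ({x, y, z} : Set G)) 5 := by
  have hm : ∀ s ∈ ({x, y, z} : Set G), s ∈ Subgroup.closure ({x, y, z} : Set G) := fun s hs => Subgroup.subset_closure hs
  rcases hg.triple hxy hxz with h | ⟨f, -, hker⟩ | h
  · exact absurd (congrArg Subtype.val (h ⟨x, hm x (by simp)⟩ ⟨y, hm y (by simp)⟩)) (not_commute_of_R hxy)
  · obtain ⟨tx, rxy, -⟩ := hg.data hker (hm x (by simp)) (hm y (by simp)) hxy.1 hxy.2.1
    obtain ⟨ty, ryz, -⟩ := hg.data hker (hm y (by simp)) (hm z (by simp)) hyz.1 hyz.2.1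
    obtain ⟨tz, rxz, -⟩ := hg.data hker (hm x (by simp)) (hm z (by simp)) hxz.1 hxz.2.1
    obtain ⟨tz', -, -⟩ := hg.data hker (hm z (by simp)) (hm y (by simp)) hxz.2.1 hxy.2.1
    exact absurd (ryz.mpr hyz) (a4_no_triangle _ tx _ ty (rxy.mpr hxy) _ tz' (rxz.mpr hxz))
  · exact h

theorem Good.card_poly (hg : Good r ρ) {H : Subgroup G} {n : ℕ} (hH : Poly H n)
    (ha : ∃ a b : alternatingGroup (Fin n), Three a ∧ Three b ∧ Rel a b) :
    Nat.card H = 2 * Nat.card (alternatingGroup (Fin n)) := by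
  obtain ⟨f, hs, hker⟩ := hH
  obtain ⟨a, b, ta, tb, hab⟩ := ha
  obtain ⟨x, hx, rfl⟩ := lift_three hker hs ta
  obtain ⟨y, hy, rfl⟩ := lift_three hker hs tb
  have h4 := ((rel_iff hker hx hy).mp hab).2.2
  exact card_eq hker (hg.uniqInv H) hs ⟨(x * y) ^ 2, by rw [orderOf_pow' _ two_ne_zero, h4]; rfl⟩

theorem Good.card_five (hg : Good r ρ) {H : Subgroup G} (hH : Poly H 5) : Nat.card H = 120 := by
  obtain ⟨a, ha⟩ : ∃ a : alternatingGroup (Fin 5), Three a := by decide +kernel
  obtain ⟨b, tb, hb⟩ := a5_nbr a ha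
  rw [hg.card_poly hH ⟨a, b, ha, tb, hb⟩, Nat.card_eq_fintype_card]
  rfl

theorem Good.five_eq (hg : Good r ρ) {H K : Subgroup G} (hH : Poly H 5) (hK : Poly K 5) (h : H ≤ K) : H = K :=
  Subgroup.eq_of_le_of_card_ge h (by rw [hg.card_five hH, hg.card_five hK])

set_option maxHeartbeats 2000000 in
/-- A subgroup of type five contains the neighbours of its elements of order three. -/
theorem Good.step (hg : Good r ρ) {I : Subgroup G} (hI : Poly I 5) {x y : G} (hxI : x ∈ I) (hxy : R x y) : y ∈ I := by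
  by_contra hyI
  obtain ⟨f, hs, hker⟩ := hI
  have hI : Poly I 5 := ⟨f, hs, hker⟩
  have ox : orderOf (⟨x, hxI⟩ : I) = 3 := (Subgroup.orderOf_mk _ _).trans hxy.1
  obtain ⟨b, tb, hb⟩ := a5_nbr _ (three_image hker ox)
  obtain ⟨⟨y1, hy1I⟩, oy1, ey1⟩ := lift_three hker hs tb
  rw [← ey1] at tb hb
  have hxy1 : R x y1 := R_coe.mpr ((rel_iff hker ox oy1).mp hb)
  obtain ⟨c, tc, hc1, hc2⟩ := a5_common _ (three_image hker ox) _ tb hb
  obtain ⟨⟨z, hzI⟩, oz, ez⟩ := lift_three hker hs tc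
  rw [← ez] at hc1 hc2
  have hxz : R x z := R_coe.mpr ((rel_iff hker ox oz).mp hc1)
  have hy1z : R y1 z := R_coe.mpr ((rel_iff hker oy1 oz).mp hc2)
  have htri : Subgroup.closure ({x, y1, z} : Set G) = I :=
    hg.five_eq (hg.five_of_triangle hxy1 hxz hy1z) hI ((Subgroup.closure_le _).mpr (by
      rintro s (rfl | rfl | rfl) <;> assumption))
  have hm : ∀ s ∈ ({x, y1, y} : Set G), s ∈ Subgroup.closure ({x, y1, y} : Set G) := fun s hs => Subgroup.subset_closure hs
  rcases hg.triple hxy1 hxy with h | ⟨g, -, hgk⟩ | hJ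
  · exact not_commute_of_R hxy (congrArg Subtype.val (h ⟨x, hm x (by simp)⟩ ⟨y, hm y (by simp)⟩))
  · -- `A₄`: the neighbours of `x` are rotations of `y1`
    obtain ⟨tx, r1, -⟩ := hg.data hgk (hm x (by simp)) (hm y1 (by simp)) hxy.1 hxy1.2.1
    obtain ⟨ty1, -, -⟩ := hg.data hgk (hm y1 (by simp)) (hm x (by simp)) hxy1.2.1 hxy.1
    obtain ⟨ty, -, hinj⟩ := hg.data hgk (hm y (by simp)) (hm y1 (by simp)) hxy.2.1 hxy1.2.1
    obtain ⟨-, r2, -⟩ := hg.data hgk (hm x (by simp)) (hm y (by simp)) hxy.1 hxy.2.1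
    have ho : orderOf (⟨y, hm y (by simp)⟩ : Subgroup.closure ({x, y1, y} : Set G)) = 3 :=
      (Subgroup.orderOf_mk _ _).trans hxy.2.1
    have ho1 : orderOf (⟨y1, hm y1 (by simp)⟩ : Subgroup.closure ({x, y1, y} : Set G)) = 3 :=
      (Subgroup.orderOf_mk _ _).trans hxy1.2.1
    rcases a4_rot _ tx _ ty1 (r1.mpr hxy1) _ ty (r2.mpr hxy) with e | e | e
    · exact hyI (hinj e ▸ hy1I)
    · have h := congrArg Subtype.val (conj_map hgk (hg.uniqInv _) ho1 ho e)
      exact hyI (by rw [show y = x * y1 * x⁻¹ from h]; exact I.mul_mem (I.mul_mem hxI hy1I) (I.inv_mem hxI))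
    · have h := congrArg Subtype.val (conj_map hgk (hg.uniqInv _) (x := (⟨x, hm x (by simp)⟩ : Subgroup.closure ({x, y1, y} : Set G))⁻¹)
        ho1 ho (by rw [map_inv, inv_inv]; exact e))
      exact hyI (by rw [show y = x⁻¹ * y1 * x⁻¹⁻¹ from h, inv_inv]; exact I.mul_mem (I.mul_mem (I.inv_mem hxI) hy1I) hxI)
  · -- a second subgroup of type five
    obtain ⟨g, hgs, hgk⟩ := hJ
    obtain ⟨tx, r1, -⟩ := hg.data hgk (hm x (by simp)) (hm y1 (by simp)) hxy.1 hxy1.2.1
    obtain ⟨ty1, -, -⟩ := hg.data hgk (hm y1 (by simp)) (hm x (by simp)) hxy1.2.1 hxy.1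
    obtain ⟨d, td, hd1, hd2⟩ := a5_common _ tx _ ty1 (r1.mpr hxy1)
    obtain ⟨⟨w, hwJ⟩, ow, ew⟩ := lift_three hgk hgs td
    rw [← ew] at hd1 hd2
    have ow' : orderOf w = 3 := by rw [← ow, Subgroup.orderOf_mk]
    have hxw : R x w := (hg.data hgk (hm x (by simp)) hwJ hxy.1 ow').2.1.mp hd1
    have hy1w : R y1 w := (hg.data hgk (hm y1 (by simp)) hwJ hxy1.2.1 ow').2.1.mp hd2
    have hJ5 : Poly (Subgroup.closure ({x, y1, y} : Set G)) 5 := ⟨g, hgs, hgk⟩
    have htri' : Subgroup.closure ({x, y1, w} : Set G) = Subgroup.closure ({x, y1, y} : Set G) :=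
      hg.five_eq (hg.five_of_triangle hxy1 hxw hy1w) hJ5 ((Subgroup.closure_le _).mpr (by
        rintro s (rfl | rfl | rfl)
        exacts [hm _ (by simp), hm _ (by simp), hwJ]))
    have hwI : w ∉ I := fun h => hyI (by
      have hle : Subgroup.closure ({x, y1, w} : Set G) ≤ I := (Subgroup.closure_le _).mpr (by
        rintro s (rfl | rfl | rfl) <;> assumption)
      exact hle (htri' ▸ hm y (by simp)))
    have hzJ : z ∉ Subgroup.closure ({x, y1, y} : Set G) := fun h => hwI (by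
      have hle : Subgroup.closure ({x, y1, z} : Set G) ≤ Subgroup.closure ({x, y1, y} : Set G) :=
        (Subgroup.closure_le _).mpr (by
          rintro s (rfl | rfl | rfl)
          exacts [hm _ (by simp), hm _ (by simp), h])
      rw [htri] at hle
      exact (hg.five_eq hI hJ5 hle).symm ▸ hwJ)
    have hm' : ∀ s ∈ ({x, z, w} : Set G), s ∈ Subgroup.closure ({x, z, w} : Set G) := fun s hs => Subgroup.subset_closure hs
    have hrot : ∀ a b : G, a ∈ I → R x a → b ∈ Subgroup.closure ({x, y1, y} : Set G) →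
        (b = a ∨ b = x * a * x⁻¹ ∨ b = x⁻¹ * a * x) → a ∈ Subgroup.closure ({x, y1, y} : Set G) := by
      rintro a b - - hb (rfl | rfl | rfl)
      · exact hb
      · have h2 := mul_mem (mul_mem (inv_mem (hm x (by simp))) hb) (hm x (by simp))
        rwa [show x⁻¹ * (x * a * x⁻¹) * x = a by group] at h2
      · have h2 := mul_mem (mul_mem (hm x (by simp)) hb) (inv_mem (hm x (by simp)))
        rwa [show x * (x⁻¹ * a * x) * x⁻¹ = a by group] at h2
    rcases hg.triple hxz hxw with h | ⟨k, -, hkk⟩ | ⟨k, hks, hkk⟩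
    · exact not_commute_of_R hxz (congrArg Subtype.val (h ⟨x, hm' x (by simp)⟩ ⟨z, hm' z (by simp)⟩))
    · obtain ⟨tx, r1, -⟩ := hg.data hkk (hm' x (by simp)) (hm' z (by simp)) hxy.1 hxz.2.1
      obtain ⟨tz, -, -⟩ := hg.data hkk (hm' z (by simp)) (hm' x (by simp)) hxz.2.1 hxy.1
      obtain ⟨tw, -, hinj⟩ := hg.data hkk (hm' w (by simp)) (hm' z (by simp)) hxw.2.1 hxz.2.1
      obtain ⟨-, r2, -⟩ := hg.data hkk (hm' x (by simp)) (hm' w (by simp)) hxy.1 hxw.2.1
      have ho : orderOf (⟨w, hm' w (by simp)⟩ : Subgroup.closure ({x, z, w} : Set G)) = 3 :=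
        (Subgroup.orderOf_mk _ _).trans hxw.2.1
      have hoz : orderOf (⟨z, hm' z (by simp)⟩ : Subgroup.closure ({x, z, w} : Set G)) = 3 :=
        (Subgroup.orderOf_mk _ _).trans hxz.2.1
      refine hzJ (hrot z w hzI hxz hwJ ?_)
      rcases a4_rot _ tx _ tz (r1.mpr hxz) _ tw (r2.mpr hxw) with e | e | e
      · exact Or.inl (hinj e)
      · exact Or.inr (Or.inl (congrArg Subtype.val (conj_map hkk (hg.uniqInv _) hoz ho e)))
      · have h := congrArg Subtype.val (conj_map hkk (hg.uniqInv _) (x := (⟨x, hm' x (by simp)⟩ : Subgroup.closure ({x, z, w} : Set G))⁻¹)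
          hoz ho (by rw [map_inv, inv_inv]; exact e))
        exact Or.inr (Or.inr (h.trans (by simp)))
    · obtain ⟨tx, r1, -⟩ := hg.data hkk (hm' x (by simp)) (hm' z (by simp)) hxy.1 hxz.2.1
      obtain ⟨tz, -, -⟩ := hg.data hkk (hm' z (by simp)) (hm' x (by simp)) hxz.2.1 hxy.1
      obtain ⟨tw, r3, hinj⟩ := hg.data hkk (hm' w (by simp)) (hm' z (by simp)) hxw.2.1 hxz.2.1
      obtain ⟨-, r2, -⟩ := hg.data hkk (hm' x (by simp)) (hm' w (by simp)) hxy.1 hxw.2.1
      have ho : orderOf (⟨w, hm' w (by simp)⟩ : Subgroup.closure ({x, z, w} : Set G)) = 3 :=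
        (Subgroup.orderOf_mk _ _).trans hxw.2.1
      have hoz : orderOf (⟨z, hm' z (by simp)⟩ : Subgroup.closure ({x, z, w} : Set G)) = 3 :=
        (Subgroup.orderOf_mk _ _).trans hxz.2.1
      have hox : (x⁻¹ * z * x) = x⁻¹ * z * x⁻¹⁻¹ := by rw [inv_inv]
      have hfin : ∀ {p q : G}, (q = p ∨ Kind3 (Subgroup.closure ({x, y1, p, q} : Set G))) →
          ((p = z ∧ q = w) ∨ (p = w ∧ q = z)) → False := by
        rintro p q hh hpq
        rcases hh with e | hK
        · rcases hpq with ⟨rfl, rfl⟩ | ⟨rfl, rfl⟩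
          · exact hwI (e ▸ hzI)
          · exact hwI (e.symm ▸ hzI)
        · have hmem : ∀ s ∈ ({x, y1, z, w} : Set G), s ∈ Subgroup.closure ({x, y1, p, q} : Set G) := by
            intro s hs
            refine Subgroup.subset_closure ?_
            rcases hpq with ⟨rfl, rfl⟩ | ⟨rfl, rfl⟩
            · exact hs
            · simp only [Set.mem_insert_iff, Set.mem_singleton_iff] at hs ⊢; tauto
          rcases hK with h | ⟨m, -, hmk⟩ | hK5
          · exact not_commute_of_R hxz (congrArg Subtype.val (h ⟨x, hmem x (by simp)⟩ ⟨z, hmem z (by simp)⟩))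
          · obtain ⟨t1, q1, -⟩ := hg.data hmk (hmem x (by simp)) (hmem y1 (by simp)) hxy.1 hxy1.2.1
            obtain ⟨t2, q2, -⟩ := hg.data hmk (hmem y1 (by simp)) (hmem z (by simp)) hxy1.2.1 hxz.2.1
            obtain ⟨-, q3, -⟩ := hg.data hmk (hmem x (by simp)) (hmem z (by simp)) hxy.1 hxz.2.1
            obtain ⟨t3, -, -⟩ := hg.data hmk (hmem z (by simp)) (hmem x (by simp)) hxz.2.1 hxy.1
            exact a4_no_triangle _ t1 _ t2 (q1.mpr hxy1) _ t3 (q3.mpr hxz) (q2.mpr hy1z)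
          · have e1 : I = Subgroup.closure ({x, y1, p, q} : Set G) := hg.five_eq hI hK5 (htri ▸
              (Subgroup.closure_le _).mpr (by rintro s (rfl | rfl | rfl) <;> exact hmem _ (by simp)))
            exact hwI (e1.symm ▸ hmem w (by simp))
      rcases a5_hexagon _ tx _ tz (r1.mpr hxz) _ tw (r2.mpr hxw) with e | e | e | e | e | e
      · exact hzJ (hrot z w hzI hxz hwJ (Or.inl (hinj e)))
      · exact hzJ (hrot z w hzI hxz hwJ (Or.inr (Or.inl
          (congrArg Subtype.val (conj_map hkk (hg.uniqInv _) hoz ho e)))))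
      · have h := congrArg Subtype.val (conj_map hkk (hg.uniqInv _) (x := (⟨x, hm' x (by simp)⟩ : Subgroup.closure ({x, z, w} : Set G))⁻¹)
          hoz ho (by rw [map_inv, inv_inv]; exact e))
        exact hzJ (hrot z w hzI hxz hwJ (Or.inr (Or.inr (h.trans (by simp)))))
      · exact six_false hg.two hg.three hg.fpf hxy1 hxz hxw hy1z hy1w (r3.mp e).symm
      · have hoc : orderOf (x * z * x⁻¹) = 3 := orderOf_conj.trans hxz.2.1
        have hmc : x * z * x⁻¹ ∈ Subgroup.closure ({x, z, w} : Set G) :=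
          mul_mem (mul_mem (hm' x (by simp)) (hm' z (by simp))) (inv_mem (hm' x (by simp)))
        have hR : R w (x * z * x⁻¹) := (hg.data hkk (hm' w (by simp)) hmc hxw.2.1 hoc).2.1.mp (by
          rw [show (⟨x * z * x⁻¹, hmc⟩ : Subgroup.closure ({x, z, w} : Set G)) =
            ⟨x, hm' x (by simp)⟩ * ⟨z, hm' z (by simp)⟩ * (⟨x, hm' x (by simp)⟩)⁻¹ from rfl, map_mul, map_mul, map_inv]
          exact e)
        exact hfin (hg.four hxy1 hxz hxw hy1z hy1w hR) (Or.inl ⟨rfl, rfl⟩)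
      · have hoc : orderOf (x⁻¹ * z * x) = 3 := by rw [hox, orderOf_conj, hxz.2.1]
        have hmc : x⁻¹ * z * x ∈ Subgroup.closure ({x, z, w} : Set G) :=
          mul_mem (mul_mem (inv_mem (hm' x (by simp))) (hm' z (by simp))) (hm' x (by simp))
        have hR : R w (x⁻¹ * z * x) := (hg.data hkk (hm' w (by simp)) hmc hxw.2.1 hoc).2.1.mp (by
          rw [show (⟨x⁻¹ * z * x, hmc⟩ : Subgroup.closure ({x, z, w} : Set G)) =
            (⟨x, hm' x (by simp)⟩)⁻¹ * ⟨z, hm' z (by simp)⟩ * ⟨x, hm' x (by simp)⟩ from rfl, map_mul, map_mul, map_inv]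
          exact e)
        have hR2 := (hR.conj x).symm
        rw [show x * (x⁻¹ * z * x) * x⁻¹ = z by group] at hR2
        exact hfin (hg.four hxy1 hxw hxz hy1w hy1z hR2) (Or.inr ⟨rfl, rfl⟩)

theorem closure_three_normal : (Subgroup.closure {g : G | orderOf g = 3}).Normal :=
  ⟨fun a ha g => by
    induction ha using Subgroup.closure_induction with
    | mem s hs => exact Subgroup.subset_closure (orderOf_conj.trans hs)
    | one => simp
    | mul a b _ _ ha hb => rw [show g * (a * b) * g⁻¹ = g * a * g⁻¹ * (g * b * g⁻¹) by group]; exact mul_mem ha hb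
    | inv a _ ha => rw [show g * a⁻¹ * g⁻¹ = (g * a * g⁻¹)⁻¹ by group]; exact inv_mem ha⟩

/-- A subgroup of type five contains all elements of order three and is normal. -/
theorem Good.five_all (hg : Good r ρ) {I : Subgroup G} (hI : Poly I 5) :
    I.Normal ∧ Nat.card I = 120 ∧ ∀ g : G, orderOf g = 3 → g ∈ I := by
  have hall : ∀ g : G, orderOf g = 3 → g ∈ I := by
    intro w hw
    obtain ⟨f, hs, hker⟩ := id hI
    obtain ⟨a, ta⟩ : ∃ a : alternatingGroup (Fin 5), Three a := by decide +kernel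
    obtain ⟨⟨x, hxI⟩, ox, -⟩ := lift_three hker hs ta
    have hx : orderOf x = 3 := by rw [← ox, Subgroup.orderOf_mk]
    have hwx : orderOf w⁻¹ = 3 := by rw [orderOf_inv, hw]
    have hm : ∀ s ∈ ({x, w} : Set G), s ∈ Subgroup.closure ({x, w} : Set G) := fun s hs => Subgroup.subset_closure hs
    have hwi : w⁻¹ ∈ Subgroup.closure ({x, w} : Set G) := inv_mem (hm w (by simp))
    by_cases hxw : w ∈ Subgroup.zpowers x
    · exact Subgroup.zpowers_le.mpr hxI hxw
    have hne : ¬ Commute x w := fun c => hxw (hg.fpf.mem_zpowers Nat.prime_three hx hw c)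
    rcases hg.pair hx hw with h | ⟨g, -, hgk⟩ | ⟨g, hgs, hgk⟩
    · exact absurd (congrArg Subtype.val (h ⟨x, hm x (by simp)⟩ ⟨w, hm w (by simp)⟩)) hne
    all_goals
      obtain ⟨tx, r1, i1⟩ := hg.data hgk (hm x (by simp)) (hm w (by simp)) hx hw
      obtain ⟨-, r2, i2⟩ := hg.data hgk (hm x (by simp)) hwi hx hwx
      obtain ⟨tw, -, -⟩ := hg.data hgk (hm w (by simp)) (hm x (by simp)) hw hx
      have hinv : g ⟨w⁻¹, hwi⟩ = (g ⟨w, hm w (by simp)⟩)⁻¹ := by rw [← map_inv]; rfl
      rw [hinv] at r2 i2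
      have n1 : g ⟨w, hm w (by simp)⟩ ≠ g ⟨x, hm x (by simp)⟩ := fun e =>
        hne (by rw [i1 e.symm])
      have n2 : g ⟨w, hm w (by simp)⟩ ≠ (g ⟨x, hm x (by simp)⟩)⁻¹ := fun e => hne (by
        rw [i2 (by rw [e, inv_inv])]; exact (Commute.refl w).inv_left)
      have fin : R x w ∨ R x w⁻¹ → w ∈ I := fun h => h.elim (hg.step hI hxI) fun h => inv_mem_iff.mp (hg.step hI hxI h)
    · exact fin ((a4_pair _ tx _ tw n1 n2).imp r1.mp r2.mp)
    · rcases a5_two_steps _ tx _ tw n1 n2 with e | e | ⟨c, tc, h1, h2⟩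
      · exact fin (Or.inl (r1.mp e))
      · exact fin (Or.inr (r2.mp e))
      · obtain ⟨⟨u, hu⟩, ou, rfl⟩ := lift_three hgk hgs tc
        have ou' : orderOf u = 3 := by rw [← ou, Subgroup.orderOf_mk]
        have huI : u ∈ I := hg.step hI hxI ((hg.data hgk (hm x (by simp)) hu hx ou').2.1.mp h1)
        rcases h2 with h2 | h2
        · exact hg.step hI huI ((hg.data hgk hu (hm w (by simp)) ou' hw).2.1.mp h2)
        · rw [← hinv] at h2
          exact inv_mem_iff.mp (hg.step hI huI ((hg.data hgk hu hwi ou' hwx).2.1.mp h2))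
  refine ⟨?_, hg.card_five hI, hall⟩
  have hle : Subgroup.closure {g : G | orderOf g = 3} ≤ I := (Subgroup.closure_le _).mpr hall
  have hI' := hI
  obtain ⟨f, hs, hker⟩ := hI'
  obtain ⟨a, ta⟩ : ∃ a : alternatingGroup (Fin 5), Three a := by decide +kernel
  obtain ⟨b, tb, hb⟩ := a5_nbr a ta
  obtain ⟨c, tc, hac, hbc⟩ := a5_common a ta b tb hb
  obtain ⟨x, ox, rfl⟩ := lift_three hker hs ta
  obtain ⟨y, oy, rfl⟩ := lift_three hker hs tb
  obtain ⟨z, oz, rfl⟩ := lift_three hker hs tc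
  have hxy := R_coe.mpr ((rel_iff hker ox oy).mp hb)
  have hxz := R_coe.mpr ((rel_iff hker ox oz).mp hac)
  have hyz := R_coe.mpr ((rel_iff hker oy oz).mp hbc)
  have htri : Subgroup.closure ({(x : G), (y : G), (z : G)} : Set G) = I :=
    hg.five_eq (hg.five_of_triangle hxy hxz hyz) hI ((Subgroup.closure_le _).mpr (by
      rintro s (rfl | rfl | rfl)
      exacts [x.2, y.2, z.2]))
  have he : Subgroup.closure {g : G | orderOf g = 3} = I := le_antisymm hle (htri ▸ Subgroup.closure_mono (by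
    rintro s (rfl | rfl | rfl)
    exacts [hxy.1, hxy.2.1, hxz.2.1]))
  exact he ▸ closure_three_normal

end CfsgLib.Zassenhaus
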