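import Mathlib

/-!
Elements of order three in the alternating groups of degree four and five.
-/

set_option autoImplicit false
set_option maxRecDepth 20000
set_option synthInstance.maxSize 4000
set_option synthInstance.maxHeartbeats 400000

namespace CfsgLib.Zassenhaus

/-- Order three. -/
def Three {M : Type*} [Monoid M] (a : M) : Prop := a ^ 3 = 1 ∧ a ≠ 1

/-- The product is an involution. -/
def Rel {M : Type*} [Monoid M] (a b : M) : Prop := (a * b) ^ 2 = 1 ∧ a * b ≠ 1

instance {M : Type*} [Monoid M] [DecidableEq M] (a : M) : Decidable (Three a) := inferInstanceAs (Decidable (_ ∧ _))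
instance {M : Type*} [Monoid M] [DecidableEq M] (a b : M) : Decidable (Rel a b) := inferInstanceAs (Decidable (_ ∧ _))

theorem a4_pair : ∀ a : alternatingGroup (Fin 4), Three a → ∀ b, Three b → b ≠ a → b ≠ a⁻¹ →
    Rel a b ∨ Rel a b⁻¹ := by decide +kernel

theorem a4_rot : ∀ a : alternatingGroup (Fin 4), Three a → ∀ b, Three b → Rel a b → ∀ c, Three c → Rel a c →
    c = b ∨ c = a * b * a⁻¹ ∨ c = a⁻¹ * b * a := by decide +kernel

theorem a4_no_triangle : ∀ a : alternatingGroup (Fin 4), Three a → ∀ b, Three b → Rel a b → ∀ c, Three c →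
    Rel a c → ¬ Rel b c := by decide +kernel

theorem a4_three : ∃ a b : alternatingGroup (Fin 4), Three a ∧ Three b ∧ Rel a b := by decide +kernel

theorem a5_nbr : ∀ a : alternatingGroup (Fin 5), Three a → ∃ b, Three b ∧ Rel a b := by decide +kernel

theorem a5_common : ∀ a : alternatingGroup (Fin 5), Three a → ∀ b, Three b → Rel a b →
    ∃ c, Three c ∧ Rel a c ∧ Rel b c := by decide +kernel

theorem a5_common_unique : ∀ a : alternatingGroup (Fin 5), Three a → ∀ b, Three b → Rel a b →
    ∀ c, Three c → Rel a c → Rel b c → ∀ d, Three d → Rel a d → Rel b d → c = d := by decide +kernel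

theorem a5_hexagon : ∀ a : alternatingGroup (Fin 5), Three a → ∀ b, Three b → Rel a b → ∀ c, Three c → Rel a c →
    c = b ∨ c = a * b * a⁻¹ ∨ c = a⁻¹ * b * a ∨ Rel c b ∨ Rel c (a * b * a⁻¹) ∨ Rel c (a⁻¹ * b * a) := by
  decide +kernel

theorem a5_two_steps : ∀ a : alternatingGroup (Fin 5), Three a → ∀ b, Three b → b ≠ a → b ≠ a⁻¹ →
    Rel a b ∨ Rel a b⁻¹ ∨ ∃ c, Three c ∧ Rel a c ∧ (Rel c b ∨ Rel c b⁻¹) := by decide +kernel

theorem a5_count : Fintype.card {p : alternatingGroup (Fin 5) × alternatingGroup (Fin 5) //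
    Three p.1 ∧ Three p.2 ∧ Rel p.1 p.2} = 120 := by decide +kernel

theorem a5_center : ∀ a : alternatingGroup (Fin 5), (∀ b, a * b = b * a) → a = 1 := by decide +kernel

theorem a5_four : ∃ a b : alternatingGroup (Fin 5), a ≠ b ∧ a ≠ 1 ∧ b ≠ 1 ∧ a ^ 2 = 1 ∧ b ^ 2 = 1 ∧ a * b = b * a := by
  decide +kernel

end CfsgLib.Zassenhaus
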