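import Cfsg.Agent.Lib.Zassenhaus.Config
import Cfsg.Agent.Lib.Zassenhaus.Facts

/-!
Transfer of questions on elements of order three to `A₄` and `A₅`.
-/

set_option autoImplicit false
set_option linter.style.haveILetI false

namespace CfsgLib.Zassenhaus

/-- Involutions are unique. -/
def UniqInv (H : Type*) [Group H] : Prop := ∀ g h : H, orderOf g = 2 → orderOf h = 2 → g = h

variable {H : Type*} [Group H] [Finite H] {n : ℕ} {f : H →* alternatingGroup (Fin n)}
  (hker : ∀ h : H, f h = 1 ↔ h = 1 ∨ orderOf h = 2)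

theorem not_commute_of_R {G : Type*} [Group G] {g h : G} (e : R g h) : ¬ Commute g h := fun c => by
  have h1 : (g * h) ^ 3 = 1 := by
    have a := pow_orderOf_eq_one g; rw [e.1] at a
    have b := pow_orderOf_eq_one h; rw [e.2.1] at b
    rw [c.mul_pow, a, b, one_mul]
  have := orderOf_dvd_of_pow_eq_one h1
  rw [e.2.2] at this
  omega

theorem R_map_iff {G : Type*} [Group G] (φ : H →* G) (hφ : Function.Injective φ) {g h : H} :
    R (φ g) (φ h) ↔ R g h := by
  simp only [R, ← map_mul, orderOf_injective φ hφ]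

include hker in
theorem three_image {x : H} (hx : orderOf x = 3) : Three (f x) := by
  refine ⟨by rw [← map_pow, ← hx, pow_orderOf_eq_one, map_one], fun e => ?_⟩
  rcases (hker x).mp e with e' | e'
  · rw [e', orderOf_one] at hx; omega
  · omega

include hker in
theorem rel_iff {x y : H} (hx : orderOf x = 3) (hy : orderOf y = 3) : Rel (f x) (f y) ↔ R x y := by
  rw [R, Rel, ← map_mul]
  haveI := Fact.mk Nat.prime_two
  constructor
  · rintro ⟨h1, h2⟩
    refine ⟨hx, hy, ?_⟩
    have hq : orderOf ((x * y) ^ 2) = 2 := ((hker _).mp (by rwa [map_pow])).resolve_left fun e => h2 ((hker _).mpr (by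
      by_cases h : x * y = 1
      · exact Or.inl h
      · exact Or.inr (orderOf_eq_prime e h)))
    refine orderOf_eq_prime_pow (p := 2) (n := 1) (fun e => ?_) ?_
    · rw [pow_one] at e; rw [e, orderOf_one] at hq; omega
    · have := pow_orderOf_eq_one ((x * y) ^ 2)
      rw [hq, ← pow_mul] at this
      exact this
  · rintro ⟨-, -, h4⟩
    refine ⟨?_, fun e => ?_⟩
    · rw [← map_pow]; exact (hker _).mpr (Or.inr (by rw [orderOf_pow' _ two_ne_zero, h4]; rfl))
    · rcases (hker _).mp e with e' | e'
      · rw [e', orderOf_one] at h4; omega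
      · omega

include hker in
theorem eq_of_map_eq (hu : UniqInv H) {x y : H} (hx : orderOf x = 3) (hy : orderOf y = 3) (e : f x = f y) : x = y := by
  have h1 : f (x * y⁻¹) = 1 := by rw [map_mul, e, map_inv, mul_inv_cancel]
  rcases (hker _).mp h1 with h | h
  · exact mul_inv_eq_one.mp h
  · exfalso
    have hc : ∀ g : H, Commute (x * y⁻¹) g := fun g => by
      have hh := hu _ _ ((MulAut.conj g).orderOf_eq _ |>.trans h) h
      rw [MulAut.conj_apply, mul_inv_eq_iff_eq_mul] at hh
      exact hh.symm
    have hx3 : x ^ 3 = 1 := by rw [← hx]; exact pow_orderOf_eq_one x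
    rw [show x = (x * y⁻¹) * y by group, (hc y).mul_pow, show y ^ 3 = 1 by rw [← hy]; exact pow_orderOf_eq_one y,
      mul_one] at hx3
    have := orderOf_dvd_of_pow_eq_one hx3
    rw [h] at this
    omega

include hker in
theorem lift_three (hs : Function.Surjective f) {a : alternatingGroup (Fin n)} (ha : Three a) :
    ∃ x : H, orderOf x = 3 ∧ f x = a := by
  haveI := Fact.mk Nat.prime_three
  obtain ⟨h, rfl⟩ := hs a
  rcases (hker (h ^ 3)).mp (by rw [map_pow]; exact ha.1) with e | e
  · exact ⟨h, orderOf_eq_prime e (fun e' => ha.2 (by rw [e', map_one])), rfl⟩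
  · have e2 : (h ^ 4) ^ 3 = 1 := by
      rw [← pow_mul, show 4 * 3 = 3 * (2 * 2) from rfl, pow_mul, pow_mul, ← e, pow_orderOf_eq_one, one_pow]
    have e3 : f (h ^ 4) = f h := by rw [map_pow, pow_succ (f h) 3, ha.1, one_mul]
    exact ⟨h ^ 4, orderOf_eq_prime e2 (fun e' => ha.2 (by rw [← e3, e', map_one])), e3⟩

include hker in
theorem conj_map (hu : UniqInv H) {x y w : H} (hy : orderOf y = 3) (hw : orderOf w = 3)
    (h : f w = f x * f y * (f x)⁻¹) : w = x * y * x⁻¹ := by
  refine eq_of_map_eq hker hu hw ?_ (by rw [h, map_mul, map_mul, map_inv])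
  rw [show x * y * x⁻¹ = MulAut.conj x y from rfl, MulEquiv.orderOf_eq, hy]

include hker in
theorem card_eq (hu : UniqInv H) (hs : Function.Surjective f) (hinv : ∃ t : H, orderOf t = 2) :
    Nat.card H = 2 * Nat.card (alternatingGroup (Fin n)) := by
  obtain ⟨t, ht⟩ := hinv
  have hk : Nat.card f.ker = 2 := by
    have : (f.ker : Set H) = {1, t} := by
      ext h
      rw [SetLike.mem_coe, MonoidHom.mem_ker, hker, Set.mem_insert_iff, Set.mem_singleton_iff]
      exact ⟨fun e => e.imp id fun e' => hu h t e' ht, fun e => e.imp id fun (e' : h = t) => e'.symm ▸ ht⟩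
    rw [← SetLike.coe_sort_coe, this, Nat.card_coe_set_eq, Set.ncard_pair]
    intro e; rw [← e, orderOf_one] at ht; omega
  rw [← f.ker.index_mul_card, hk, Subgroup.index_ker, MonoidHom.range_eq_top.mpr hs, Subgroup.card_top, mul_comm]

end CfsgLib.Zassenhaus
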