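import Cfsg.Agent.Lib.Zassenhaus.Corollaries
import Cfsg.Agent.Lib.QuaternionSection
import Cfsg.Agent.Lib.PSolvable
import Cfsg.Agent.Lib.Basic
import Cfsg.Agent.S3742
import Cfsg.Agent.S2119

/-!
The six possible quotients of a Frobenius complement by its largest normal `Z`-subgroup.
-/

set_option autoImplicit false
set_option linter.style.haveILetI false
set_option linter.unusedSectionVars false

namespace CfsgLib.Zassenhaus

open Cfsg

/-- The map of a quaternion group onto the Klein four group. -/
def quatKlein (n : ℕ) (hn : Even n) : QuaternionGroup n →* DihedralGroup 2 where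
  toFun := fun x => match x with
    | .a i => .r (i.cast : ZMod 2)
    | .xa i => .sr (i.cast : ZMod 2)
  map_one' := by
    show DihedralGroup.r ((0 : ZMod (2 * n)).cast : ZMod 2) = 1
    rw [ZMod.cast_zero, DihedralGroup.one_def]
  map_mul' := by
    have h2 : 2 ∣ 2 * n := dvd_mul_right 2 n
    have hn0 : ((n : ZMod (2 * n)).cast : ZMod 2) = 0 := by
      rw [ZMod.cast_natCast h2, ZMod.natCast_eq_zero_iff_even]; exact hn
    rintro (i | i) (j | j)
    · show DihedralGroup.r ((i + j).cast : ZMod 2) = _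
      rw [ZMod.cast_add h2, DihedralGroup.r_mul_r]
    · show DihedralGroup.sr ((j - i).cast : ZMod 2) = _
      rw [ZMod.cast_sub h2, DihedralGroup.r_mul_sr]
    · show DihedralGroup.sr ((i + j).cast : ZMod 2) = _
      rw [ZMod.cast_add h2, DihedralGroup.sr_mul_r]
    · show DihedralGroup.r (((n : ZMod (2 * n)) + j - i).cast : ZMod 2) = _
      rw [ZMod.cast_sub h2, ZMod.cast_add h2, hn0, zero_add, DihedralGroup.sr_mul_sr]

theorem quatKlein_ker {n : ℕ} [NeZero n] (hn : Even n) {x : QuaternionGroup n} (h : quatKlein n hn x = 1) :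
    x ∈ Subgroup.zpowers (QuaternionGroup.a 1 : QuaternionGroup n) := by
  rcases x with i | i
  · exact ⟨(i.val : ℤ), by
      show (QuaternionGroup.a 1 : QuaternionGroup n) ^ ((i.val : ℕ) : ℤ) = _
      rw [zpow_natCast, QuaternionGroup.a_one_pow, ZMod.natCast_zmod_val]⟩
  · change DihedralGroup.sr _ = _ at h
    rw [DihedralGroup.one_def] at h
    cases h

theorem quatKlein_surjective {n : ℕ} (hn : Even n) : Function.Surjective (quatKlein n hn) := by
  have h2 : 2 ∣ 2 * n := dvd_mul_right 2 n
  rintro (i | i)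
  · exact ⟨.a (i.val : ZMod (2 * n)), by
      show DihedralGroup.r _ = _
      rw [ZMod.cast_natCast h2, ZMod.natCast_zmod_val]⟩
  · exact ⟨.xa (i.val : ZMod (2 * n)), by
      show DihedralGroup.sr _ = _
      rw [ZMod.cast_natCast h2, ZMod.natCast_zmod_val]⟩

/-- A subgroup of `Sym(4)` of order divisible by twelve contains the alternating group. -/
theorem alt_le_of_twelve {H : Subgroup (Equiv.Perm (Fin 4))} (h : 12 ∣ Nat.card H) :
    alternatingGroup (Fin 4) ≤ H := by
  have h1 := H.card_mul_index
  rw [Nat.card_eq_fintype_card (α := Equiv.Perm (Fin 4)), Fintype.card_perm, Fintype.card_fin] at h1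
  obtain ⟨c, hc⟩ := h
  rw [hc] at h1
  have h2 : H.index ≤ 2 := by
    have hc0 : 0 < c := Nat.pos_of_ne_zero fun e => by rw [e] at h1; simp [Nat.factorial] at h1
    have h24 : 12 * c * H.index = 24 := by rw [h1]; rfl
    nlinarith
  rw [← Equiv.Perm.closure_three_cycles_eq_alternating, Subgroup.closure_le]
  intro σ hσ
  have hpos : H.index ≠ 0 := Subgroup.index_ne_zero_of_finite
  rcases (show H.index = 1 ∨ H.index = 2 by omega) with e | e
  · rw [Subgroup.index_eq_one.mp e]; trivial
  · have h3 : orderOf σ = 3 := hσ.orderOf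
    have h4 : σ = (σ * σ) * (σ * σ) := by
      calc σ = σ ^ 3 * σ := by rw [← h3, pow_orderOf_eq_one, one_mul]
        _ = _ := by simp [pow_succ, mul_assoc]
    rw [SetLike.mem_coe, h4]
    exact Subgroup.mul_self_mem_of_index_two e _

/-- A homomorphism to `Sym(n)` whose image contains the alternating group. -/
theorem range_cases {G : Type*} [Group G] {n : ℕ} (F : G →* Equiv.Perm (Fin n))
    (h : alternatingGroup (Fin n) ≤ F.range) :
    (∃ f : G →* alternatingGroup (Fin n), Function.Surjective f ∧ f.ker = F.ker) ∨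
      (∃ f : G →* Equiv.Perm (Fin n), Function.Surjective f ∧ f.ker = F.ker) := by
  by_cases he : ∀ g, F g ∈ alternatingGroup (Fin n)
  · refine Or.inl ⟨F.codRestrict _ he, fun a => ?_, MonoidHom.ker_codRestrict _ _ _⟩
    obtain ⟨g, hg⟩ := h a.2
    exact ⟨g, Subtype.ext hg⟩
  · push Not at he
    obtain ⟨g0, hg0⟩ := he
    refine Or.inr ⟨F, fun σ => ?_, rfl⟩
    by_cases hσ : σ ∈ alternatingGroup (Fin n)
    · exact h hσ
    · rw [Equiv.Perm.mem_alternatingGroup] at hσ hg0
      have hm : σ * (F g0)⁻¹ ∈ alternatingGroup (Fin n) := by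
        rw [Equiv.Perm.mem_alternatingGroup, map_mul, map_inv, (Int.units_eq_one_or _).resolve_left hσ,
          (Int.units_eq_one_or _).resolve_left hg0]
        rfl
      obtain ⟨g, hg⟩ := h hm
      exact ⟨g * g0, by rw [map_mul, hg, inv_mul_cancel_right]⟩

theorem exists_solvable_type {G : Type*} [Group G] [Finite G] [Group.IsSolvable G] (S : Sylow 2 G) {k : ℕ}
    (e : (S : Subgroup G) ≃* QuaternionGroup (2 ^ k))
    (hk : 1 ≤ k) :
    ∃ N : Subgroup G, (∀ P : Subgroup G, P ≤ N → IsPGroup 2 P → IsCyclic P) ∧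
      ((∃ f : G →* DihedralGroup 2, Function.Surjective f ∧ f.ker = N) ∨
        (∃ f : G →* alternatingGroup (Fin 4), Function.Surjective f ∧ f.ker = N) ∨
        (∃ f : G →* Equiv.Perm (Fin 4), Function.Surjective f ∧ f.ker = N)) := by
  classical
  haveI : Fact (Nat.Prime 2) := ⟨Nat.prime_two⟩
  haveI : NeZero (2 ^ k) := ⟨by positivity⟩
  obtain ⟨O, hO⟩ : ∃ O, O = pPrimeCore 2 G := ⟨_, rfl⟩
  haveI : O.Normal := hO ▸ inferInstance
  have hOodd : ¬ 2 ∣ Nat.card O := hO ▸ CfsgLib.not_dvd_card_pPrimeCore Nat.prime_two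
  obtain ⟨π, hπ⟩ : ∃ π : G →* G ⧸ O, π = QuotientGroup.mk' O := ⟨_, rfl⟩
  have hπs : Function.Surjective π := hπ ▸ QuotientGroup.mk'_surjective O
  have hπinj : ∀ P : Subgroup G, IsPGroup 2 P → Function.Injective (π.comp P.subtype) := by
    intro P hP
    rw [injective_iff_map_eq_one]
    intro a ha
    obtain ⟨j, hj⟩ := hP a
    have ha' : (a : G) ∈ O := (QuotientGroup.eq_one_iff _).mp (by rw [hπ] at ha; exact ha)
    have h1 : orderOf (a : G) ∣ 2 ^ j := orderOf_dvd_of_pow_eq_one (congrArg Subtype.val hj)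
    have h2 := Nat.Coprime.pow_left j (Nat.prime_two.coprime_iff_not_dvd.mpr hOodd)
    exact Subtype.ext (orderOf_eq_one_iff.mp (Nat.eq_one_of_dvd_coprimes h2 h1 (O.orderOf_dvd_natCard ha')))
  obtain ⟨S', hS'⟩ : ∃ S' : Sylow 2 (G ⧸ O), S' = S.mapSurjective hπs := ⟨_, rfl⟩
  let eS : (S : Subgroup G) ≃* (S' : Subgroup (G ⧸ O)) :=
    (MonoidHom.ofInjective (hπinj _ S.isPGroup')).trans (MulEquiv.subgroupCongr (by
      rw [hS', Sylow.coe_mapSurjective, MonoidHom.range_comp, Subgroup.range_subtype]))
  have hu : CfsgLib.Frob.UniqSub 2 (S' : Subgroup (G ⧸ O)) :=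
    CfsgLib.QuatSection.uniqSub_of_equiv (eS.symm.trans e) (CfsgLib.QuatSection.uniqSub_quaternion k)
  obtain ⟨R, hR⟩ : ∃ R, R = pCore 2 (G ⧸ O) := ⟨_, rfl⟩
  haveI : R.Normal := hR ▸ inferInstance
  have hCR : Subgroup.centralizer (R : Set (G ⧸ O)) ≤ R := by
    subst hR
    subst hO
    exact CfsgLib.centralizer_pCore_le Nat.prime_two (CfsgLib.pPrimeCore_quotient_eq_bot 2)
  have hRS : R ≤ (S' : Subgroup (G ⧸ O)) := hR ▸ CfsgLib.pCore_le_sylow S'
  have hRp : IsPGroup 2 R := hR ▸ CfsgLib.isPGroup_pCore 2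
  by_cases hmov : ∃ g : G ⧸ O, Odd (orderOf g) ∧ g ∉ Subgroup.centralizer (R : Set (G ⧸ O))
  · obtain ⟨g, hgo, hgC⟩ := hmov
    obtain ⟨eR⟩ := CfsgLib.QuatSection.q8_of_moved hRp
      (CfsgLib.QuatSection.uniqSub_of_equiv (Subgroup.subgroupOfEquivOfLe hRS).symm (hu.sub _))
      (by rw [Subgroup.normalizer_eq_top]; exact Subgroup.mem_top g) hgC hgo
    obtain ⟨e4⟩ := Cfsg.Agent.S3742.result
    let φ : G ⧸ O →* Equiv.Perm (Fin 4) := e4.toMonoidHom.comp ((MulAut.congr eR).toMonoidHom.comp MulAut.conjNormal)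
    refine ⟨(φ.comp π).ker, fun P hP hP2 => ?_, Or.inr ?_⟩
    swap
    · refine range_cases _ (alt_le_of_twelve ?_)
      have h3 : 3 ∣ Nat.card φ.range := by
        have hne : φ g ≠ 1 := fun h => hgC (Subgroup.mem_centralizer_iff.mpr fun b hb => by
          have h1 : (MulAut.conjNormal g : MulAut R) = 1 :=
            (MulAut.congr eR).injective (e4.injective (h.trans (by rw [map_one, map_one])))
          have h2 := congrArg Subtype.val (DFunLike.congr_fun h1 (⟨b, hb⟩ : R))
          change g * b * g⁻¹ = b at h2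
          exact (mul_inv_eq_iff_eq_mul.mp h2).symm)
        have h5 : orderOf (φ g) ∣ 24 := (orderOf_dvd_natCard (φ g)).trans
          (by rw [Nat.card_eq_fintype_card, Fintype.card_perm, Fintype.card_fin]; rfl)
        have hodd : Odd (orderOf (φ g)) := hgo.of_dvd_nat (orderOf_map_dvd φ g)
        have h6 : orderOf (φ g) ∣ 3 := (Nat.Coprime.pow_right 3 hodd.coprime_two_right).dvd_of_dvd_mul_left h5
        rcases (Nat.dvd_prime Nat.prime_three).mp h6 with h | h
        · exact absurd (orderOf_eq_one_iff.mp h) hne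
        · exact h ▸ Subgroup.orderOf_dvd_natCard _ (MonoidHom.mem_range.mpr ⟨g, rfl⟩)
      have h4 : 4 ∣ Nat.card φ.range := by
        let χ : QuaternionGroup 2 →* Equiv.Perm (Fin 4) := (φ.comp R.subtype).comp eR.symm.toMonoidHom
        have hk : χ.ker = Subgroup.center (QuaternionGroup 2) := by
          ext b
          rw [MonoidHom.mem_ker, Subgroup.mem_center_iff]
          obtain ⟨b, rfl⟩ := eR.surjective b
          show φ ((eR.symm (eR b) : R) : G ⧸ O) = 1 ↔ _
          rw [MulEquiv.symm_apply_apply]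
          constructor
          · intro h c
            obtain ⟨c, rfl⟩ := eR.surjective c
            have h1 : (MulAut.conjNormal (b : G ⧸ O) : MulAut R) = 1 :=
              (MulAut.congr eR).injective (e4.injective (h.trans (by rw [map_one, map_one])))
            have h2 : b * c * b⁻¹ = c := Subtype.ext (congrArg Subtype.val (DFunLike.congr_fun h1 c))
            rw [← map_mul, ← map_mul, mul_inv_eq_iff_eq_mul.mp h2]
          · intro h
            have h1 : (MulAut.conjNormal (b : G ⧸ O) : MulAut R) = 1 := MulEquiv.ext fun c => Subtype.ext (by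
              rw [MulAut.conjNormal_apply, MulAut.one_apply]
              have h2 : b * c = c * b := eR.injective (by rw [map_mul, map_mul, (h (eR c)).symm])
              exact mul_inv_eq_iff_eq_mul.mpr (congrArg Subtype.val h2))
            show e4 (MulAut.congr eR (MulAut.conjNormal (b : G ⧸ O))) = 1
            rw [h1, map_one, map_one]
        have h2 : Nat.card χ.range = 4 := by
          rw [← Subgroup.index_ker, hk]
          have h := (Subgroup.center (QuaternionGroup 2)).card_mul_index
          rw [show Nat.card (Subgroup.center (QuaternionGroup 2)) = 2 by rw [Nat.card_eq_fintype_card]; decide,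
            Nat.card_eq_fintype_card, QuaternionGroup.card] at h
          omega
        refine h2.symm.dvd.trans (Subgroup.card_dvd_of_le ?_)
        rintro _ ⟨b, rfl⟩
        exact ⟨_, rfl⟩
      rw [MonoidHom.range_comp, MonoidHom.range_eq_top.mpr hπs, ← MonoidHom.range_eq_map]
      exact Nat.Coprime.mul_dvd_of_dvd_of_dvd (by norm_num) h3 h4
    have hmem : ∀ a ∈ P, ∀ b : R, π a * b = b * π a := fun a ha b => by
      have h1 : (MulAut.conjNormal (π a) : MulAut R) = 1 :=
        (MulAut.congr eR).injective (e4.injective ((MonoidHom.mem_ker.mp (hP ha) : φ (π a) = 1).trans (by rw [map_one, map_one])))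
      have h2 := congrArg Subtype.val (DFunLike.congr_fun h1 b)
      change π a * b * (π a)⁻¹ = b at h2
      exact mul_inv_eq_iff_eq_mul.mp h2
    -- the image lies in the centre of the quaternion group
    let ψ : P →* Subgroup.center R :=
      { toFun := fun a => ⟨⟨π a, hCR (Subgroup.mem_centralizer_iff.mpr fun b hb => (hmem a a.2 ⟨b, hb⟩).symm)⟩,
          Subgroup.mem_center_iff.mpr fun b => Subtype.ext (hmem a a.2 b).symm⟩
        map_one' := Subtype.ext (Subtype.ext (map_one π))
        map_mul' := fun a b => Subtype.ext (Subtype.ext (map_mul π _ _)) }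
    have hψ : Function.Injective ψ := fun a b hab => hπinj P hP2 (congrArg (fun c : Subgroup.center R => ((c : R) : G ⧸ O)) hab)
    haveI : IsCyclic (Subgroup.center (QuaternionGroup 2)) := by
      have h2 : Nat.card (Subgroup.center (QuaternionGroup 2)) = 2 := by
        rw [Nat.card_eq_fintype_card]; decide
      exact isCyclic_of_prime_card h2
    haveI : IsCyclic (Subgroup.center R) := by
      refine isCyclic_of_injective (f := (eR.toMonoidHom.comp (Subgroup.center R).subtype).codRestrict (Subgroup.center (QuaternionGroup 2)) fun c => ?_) fun a b hab => Subtype.ext (eR.injective (congrArg Subtype.val hab))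
      rw [Subgroup.mem_center_iff]
      intro w
      obtain ⟨w, rfl⟩ := eR.surjective w
      show eR w * eR c = eR c * eR w
      rw [← map_mul, ← map_mul, Subgroup.mem_center_iff.mp c.2 w]
    exact isCyclic_of_injective ψ hψ
  · push Not at hmov
    -- the quotient is a `2`-group
    have htop : (S' : Subgroup (G ⧸ O)) = ⊤ := by
      by_contra h
      have h1 : (S' : Subgroup (G ⧸ O)).index ≠ 1 := fun e1 => h (Subgroup.index_eq_one.mp e1)
      obtain ⟨q, hq, hqd⟩ := Nat.exists_prime_and_dvd h1
      have := Fact.mk hq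
      obtain ⟨g, hg⟩ := exists_prime_orderOf_dvd_card' (G := G ⧸ O) q (hqd.trans (Subgroup.index_dvd_card _))
      have hq2 : q ≠ 2 := fun e1 => S'.not_dvd_index (e1 ▸ hqd)
      have hgR := hCR (hmov g (hg ▸ hq.odd_of_ne_two hq2))
      obtain ⟨j, hj⟩ := hRp ⟨g, hgR⟩
      have h2 := orderOf_dvd_of_pow_eq_one (congrArg Subtype.val hj)
      rw [hg] at h2
      exact hq2 ((Nat.prime_dvd_prime_iff_eq hq Nat.prime_two).mp (hq.dvd_of_dvd_pow h2))
    let eQ : G ⧸ O ≃* QuaternionGroup (2 ^ k) :=
      (Subgroup.topEquiv.symm.trans (MulEquiv.subgroupCongr htop.symm)).trans (eS.symm.trans e)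
    have hev : Even (2 ^ k) := Nat.even_pow.mpr ⟨even_two, by omega⟩
    let F : G →* DihedralGroup 2 := (quatKlein (2 ^ k) hev).comp (eQ.toMonoidHom.comp π)
    refine ⟨F.ker, fun P hP hP2 => ?_, Or.inl ⟨F, ?_, rfl⟩⟩
    · let A := Subgroup.zpowers (QuaternionGroup.a 1 : QuaternionGroup (2 ^ k))
      exact isCyclic_of_injective (f := (eQ.toMonoidHom.comp (π.comp P.subtype)).codRestrict A
          fun a => quatKlein_ker hev (MonoidHom.mem_ker.mp (hP a.2)))
        fun a b hab => hπinj P hP2 (eQ.injective (congrArg Subtype.val hab))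
    · exact (quatKlein_surjective hev).comp (eQ.surjective.comp hπs)

section Five

variable {r : ℕ} [Fact r.Prime] {G : Type*} [Group G] [Finite G] {V : Type*} [AddCommGroup V]
  [Module (AlgebraicClosure (ZMod r)) V] [FiniteDimensional (AlgebraicClosure (ZMod r)) V] [Nontrivial V]
  {ρ : G →* Module.End (AlgebraicClosure (ZMod r)) V}

/-- The non-solvable type. -/
theorem Good.five_type (hg : Good r ρ) (hns : ¬ Group.IsSolvable G) :
    ∃ N : Subgroup G, (∀ P : Subgroup G, P ≤ N → IsPGroup 2 P → IsCyclic P) ∧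
      ∃ F : G →* Equiv.Perm (Fin 5), alternatingGroup (Fin 5) ≤ F.range ∧ F.ker = N := by
  classical
  haveI := Fact.mk Nat.prime_two
  obtain ⟨I, hI, hIn, hIc, hall, x, y, z, hxy, hxz, hyz, htri⟩ := hg.core hns
  obtain ⟨f, hs, hker⟩ := id hI
  haveI := hIn
  let cj : G →* MulAut I := MulAut.conjNormal
  have hwd : ∀ (g : G) (u v : I), f u = f v → f (cj g u) = f (cj g v) := by
    intro g u v h
    rw [← inv_mul_eq_one, ← map_inv, ← map_mul, ← map_inv, ← map_mul]
    have h1 : f (u⁻¹ * v) = 1 := by rw [map_mul, map_inv, h, inv_mul_cancel]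
    refine (hker _).mpr (((hker _).mp h1).imp (fun e => by rw [e, map_one]) fun e => ?_)
    rw [(cj g).orderOf_eq, e]
  obtain ⟨sc, hsc⟩ := hs.hasRightInverse
  let α : G →* MulAut (alternatingGroup (Fin 5)) :=
    { toFun := fun g =>
        { toFun := fun a => f (cj g (sc a))
          invFun := fun a => f (cj g⁻¹ (sc a))
          left_inv := fun a => (hwd g⁻¹ _ (cj g (sc a)) (hsc _)).trans (by
            rw [← MulAut.mul_apply, ← map_mul, inv_mul_cancel, map_one, MulAut.one_apply, hsc])
          right_inv := fun a => (hwd g _ (cj g⁻¹ (sc a)) (hsc _)).trans (by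
            rw [← MulAut.mul_apply, ← map_mul, mul_inv_cancel, map_one, MulAut.one_apply, hsc])
          map_mul' := fun a b => (hwd g _ (sc a * sc b) (by rw [map_mul, hsc, hsc, hsc])).trans (by
            rw [map_mul, map_mul]) }
      map_one' := MulEquiv.ext fun a => by
        show f (cj 1 (sc a)) = a
        rw [map_one, MulAut.one_apply, hsc]
      map_mul' := fun g h => MulEquiv.ext fun a => by
        show f (cj (g * h) (sc a)) = f (cj g (sc (f (cj h (sc a)))))
        rw [map_mul, MulAut.mul_apply]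
        exact (hwd g _ _ (hsc _)).symm }
  let e5 := MulEquiv.ofBijective _ (Cfsg.Agent.S2119.result 5 (by norm_num) (by norm_num))
  let F : G →* Equiv.Perm (Fin 5) := e5.symm.toMonoidHom.comp α
  refine ⟨F.ker, fun P hP hP2 => ?_, F, ?_, rfl⟩
  · have hPC : P ≤ Subgroup.centralizer (I : Set G) := by
      intro k hk
      have hk' : α k = 1 := e5.symm.injective ((MonoidHom.mem_ker.mp (hP hk)).trans (map_one e5.symm).symm)
      have key : ∀ a ∈ I, orderOf a = 3 → Commute k a := by
        intro a ha oa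
        have h1 : f (cj k (sc (f ⟨a, ha⟩))) = f ⟨a, ha⟩ := DFunLike.congr_fun hk' (f ⟨a, ha⟩)
        rw [hwd k _ ⟨a, ha⟩ (hsc _)] at h1
        have h2 := congrArg Subtype.val (eq_of_map_eq hker (hg.uniqInv I)
          (((cj k).orderOf_eq _).trans ((Subgroup.orderOf_mk _ _).trans oa)) ((Subgroup.orderOf_mk _ _).trans oa) h1)
        exact mul_inv_eq_iff_eq_mul.mp h2
      rw [← htri]
      refine mem_centralizer_closure ?_
      rintro s (rfl | rfl | rfl)
      exacts [key _ (htri ▸ Subgroup.subset_closure (by simp)) hxy.1,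
        key _ (htri ▸ Subgroup.subset_closure (by simp)) hxy.2.1,
        key _ (htri ▸ Subgroup.subset_closure (by simp)) hxz.2.1]
    have hsq : ∀ c ∈ P, c ^ 2 = 1 := by
      suffices ∀ c ∈ P, c ^ 4 = 1 → c ^ 2 = 1 by
        intro c hc
        obtain ⟨j, hj⟩ := hP2 ⟨c, hc⟩
        have hj' : c ^ 2 ^ j = 1 := congrArg Subtype.val hj
        clear hj
        induction j generalizing c with
        | zero => rw [pow_zero, pow_one] at hj'; rw [hj', one_pow]
        | succ j ih =>
          refine this c hc ?_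
          rw [show (4 : ℕ) = 2 * 2 by norm_num, pow_mul]
          exact ih (c ^ 2) (P.pow_mem hc 2) (by rw [← pow_mul, ← pow_succ']; exact hj')
      intro c hc h4
      by_contra h2
      have hc2 : orderOf (c ^ 2) = 2 := orderOf_eq_prime (by rw [← pow_mul]; exact h4) h2
      obtain ⟨a, b, -, ha1, -, ha2, -, -⟩ := a5_four
      obtain ⟨i, rfl⟩ := hs a
      have hi2 : orderOf ((i : G) ^ 2) = 2 := by
        rw [← Subgroup.coe_pow, Subgroup.orderOf_coe]
        rcases (hker (i ^ 2)).mp (by rw [map_pow, ha2]) with h | h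
        · exfalso
          by_cases h1 : i = 1
          · exact ha1 (by rw [h1, map_one])
          · exact ha1 ((hker i).mpr (Or.inr (orderOf_eq_prime h h1)))
        · exact h
      have hci : Commute (i : G) c := Subgroup.mem_centralizer_iff.mp (hPC hc) i i.2
      have hsq' : ((i : G) * c) ^ 2 = 1 := by
        rw [hci.mul_pow, hg.fpf.involution_unique hi2 hc2, ← pow_two]
        exact orderOf_dvd_iff_pow_eq_one.mp hc2.dvd
      have hcI : c ∈ I := by
        by_cases h1 : (i : G) * c = 1
        · rw [eq_inv_of_mul_eq_one_right h1]; exact I.inv_mem i.2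
        · have h3 : (i : G) * c = (i : G) ^ 2 := hg.fpf.involution_unique (orderOf_eq_prime hsq' h1) hi2
          rw [pow_two] at h3
          rw [mul_left_cancel h3]; exact i.2
      have hcen : f ⟨c, hcI⟩ = 1 := a5_center _ fun b => by
        obtain ⟨u, rfl⟩ := hs b
        rw [← map_mul, ← map_mul, show (⟨c, hcI⟩ : I) * u = u * ⟨c, hcI⟩ from
          Subtype.ext (Subgroup.mem_centralizer_iff.mp (hPC hc) u u.2).symm]
      rcases (hker _).mp hcen with h | h
      · exact h2 (by rw [show c = 1 from congrArg Subtype.val h, one_pow])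
      · rw [Subgroup.orderOf_mk] at h
        exact h2 (by rw [← h, pow_orderOf_eq_one])
    rcases subsingleton_or_nontrivial P with hP1 | hP1
    · exact isCyclic_of_subsingleton
    · obtain ⟨a, ha⟩ := exists_ne (1 : P)
      refine ⟨⟨a, fun b => ?_⟩⟩
      by_cases hb : b = 1
      · exact hb ▸ ⟨0, zpow_zero a⟩
      · have : b = a := Subtype.ext (hg.fpf.involution_unique
          (orderOf_eq_prime (hsq _ b.2) fun e => hb (Subtype.ext e))
          (orderOf_eq_prime (hsq _ a.2) fun e => ha (Subtype.ext e)))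
        exact this ▸ Subgroup.mem_zpowers a
  · intro σ hσ
    obtain ⟨i, hi⟩ := hs ⟨σ, hσ⟩
    refine ⟨(i : G), e5.injective ((e5.apply_symm_apply _).trans (MulEquiv.ext fun a => Subtype.ext ?_))⟩
    show (f (cj i (sc a)) : Equiv.Perm (Fin 5)) = σ * a * σ⁻¹
    rw [show cj (i : G) (sc a) = i * sc a * i⁻¹ from Subtype.ext (by rw [MulAut.conjNormal_apply]; rfl),
      map_mul, map_mul, map_inv, hi, hsc]
    rfl

end Five

end CfsgLib.Zassenhaus
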