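import Cfsg.Agent.Lib.Zassenhaus.Rep

/-!
Invariant subspaces of dimension at most two for quadratic elements with scalar anticommutators.
-/

set_option autoImplicit false

namespace CfsgLib.Zassenhaus

variable {k : Type*} [Field k] {V : Type*} [AddCommGroup V] [Module k V] {G : Type*} [Group G]

/-- The restriction to an invariant subspace. -/
def restrictRep (ρ : G →* Module.End k V) (W : Submodule k V) (hW : ∀ g, ∀ v ∈ W, ρ g v ∈ W) :
    G →* Module.End k W where
  toFun g := (ρ g).restrict (hW g)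
  map_one' := by ext v; simp
  map_mul' g h := by ext v; simp

theorem Fpf.restrict {ρ : G →* Module.End k V} (hf : Fpf ρ) (W : Submodule k V) (hW : ∀ g, ∀ v ∈ W, ρ g v ∈ W) :
    Fpf (restrictRep ρ W hW) := fun g hg v hv => Subtype.ext (hf g hg v (congrArg Subtype.val hv))

theorem coe_qd_restrict (ρ : G →* Module.End k V) (W : Submodule k V) (hW : ∀ g, ∀ v ∈ W, ρ g v ∈ W) (g : G)
    (v : W) : ((qd (restrictRep ρ W hW) g v : W) : V) = qd ρ g v := rfl

theorem coe_anti_restrict (ρ : G →* Module.End k V) (W : Submodule k V) (hW : ∀ g, ∀ v ∈ W, ρ g v ∈ W) (g h : G)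
    (v : W) : ((anti (restrictRep ρ W hW) g h v : W) : V) = anti ρ g h v := rfl

/-- An invariant subspace on which all central anticommutators are scalars. -/
theorem exists_scalar [IsAlgClosed k] [FiniteDimensional k V] [Nontrivial V] {ρ : G →* Module.End k V} :
    ∃ (W : Submodule k V) (hW : ∀ g, ∀ v ∈ W, ρ g v ∈ W), W ≠ ⊥ ∧
      ∀ g h : G, (∀ x : G, Commute (anti ρ g h) (ρ x)) → ∃ c : k, anti (restrictRep ρ W hW) g h = c • 1 := by
  obtain ⟨W, ⟨hW, hW0⟩, hmin⟩ := (wellFounded_lt (α := Submodule k V)).has_min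
    {W : Submodule k V | (∀ g, ∀ v ∈ W, ρ g v ∈ W) ∧ W ≠ ⊥} ⟨⊤, fun _ _ _ => trivial, top_ne_bot⟩
  refine ⟨W, hW, hW0, fun g h hc => ?_⟩
  haveI : Nontrivial W := Submodule.nontrivial_iff_ne_bot.mpr hW0
  obtain ⟨c, hcv⟩ := Module.End.exists_eigenvalue (anti (restrictRep ρ W hW) g h)
  obtain ⟨w, hw⟩ := hcv.exists_hasEigenvector
  refine ⟨c, ?_⟩
  let W' : Submodule k V := W ⊓ (anti ρ g h).eigenspace c
  have hw' : (w : V) ∈ W' := ⟨w.2, Module.End.mem_eigenspace_iff.mpr (congrArg Subtype.val hw.apply_eq_smul)⟩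
  have hle : W' = W := by
    refine (eq_or_lt_of_le (inf_le_left : W' ≤ W)).resolve_right (hmin W' ⟨fun x v hv => ?_, ?_⟩)
    · refine ⟨hW x v hv.1, Module.End.mem_eigenspace_iff.mpr ?_⟩
      rw [← Module.End.mul_apply, (hc x).eq, Module.End.mul_apply, Module.End.mem_eigenspace_iff.mp hv.2, map_smul]
    · intro e
      rw [e] at hw'
      exact hw.2 (Subtype.ext ((Submodule.mem_bot k).mp hw'))
  refine LinearMap.ext fun v => Subtype.ext ?_
  have : (v : V) ∈ W' := hle.symm ▸ v.2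
  exact Module.End.mem_eigenspace_iff.mp this.2

/-- A subspace of dimension at most two invariant under `X`, `Y`, `Z`. -/
theorem exists_small [IsAlgClosed k] [FiniteDimensional k V] [Nontrivial V] (h2 : (2 : k) ≠ 0) (h3 : (3 : k) ≠ 0)
    {X Y Z : Module.End k V} {a b c : k} (hX : X * X = (-3 : k) • 1) (hY : Y * Y = (-3 : k) • 1)
    (hZ : Z * Z = (-3 : k) • 1) (hXY : X * Y + Y * X = a • 1) (hXZ : X * Z + Z * X = b • 1)
    (hYZ : Y * Z + Z * Y = c • 1) :
    ∃ U : Submodule k V, U ≠ ⊥ ∧ Module.finrank k U ≤ 2 ∧ (∀ v ∈ U, X v ∈ U) ∧ (∀ v ∈ U, Y v ∈ U) ∧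
      ∀ v ∈ U, Z v ∈ U := by
  have h6 : (6 : k) ≠ 0 := by rw [show (6 : k) = 2 * 3 by norm_num]; exact mul_ne_zero h2 h3
  have hYX : Y * X = a • 1 - X * Y := eq_sub_of_add_eq' hXY
  have hZX : Z * X = b • 1 - X * Z := eq_sub_of_add_eq' hXZ
  have hZY : Z * Y = c • 1 - Y * Z := eq_sub_of_add_eq' hYZ
  obtain ⟨Y', hY'⟩ : ∃ Y', Y' = Y + (a / 6) • X := ⟨_, rfl⟩
  obtain ⟨Z', hZ'⟩ : ∃ Z', Z' = Z + (b / 6) • X := ⟨_, rfl⟩
  have eY : X * Y' = -(Y' * X) := by
    rw [hY']; simp only [mul_add, add_mul, mul_smul_comm, smul_mul_assoc, hX, hYX]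
    match_scalars <;> field_simp <;> ring
  have eZ : X * Z' = -(Z' * X) := by
    rw [hZ']; simp only [mul_add, add_mul, mul_smul_comm, smul_mul_assoc, hX, hZX]
    match_scalars <;> field_simp <;> ring
  obtain ⟨α, hα⟩ : ∃ α : k, Y' * Y' = α • 1 := ⟨-3 + a / 6 * a + a / 6 * (a / 6) * (-3), by
    rw [hY']; simp only [mul_add, add_mul, mul_smul_comm, smul_mul_assoc, hX, hY, hYX]; module⟩
  obtain ⟨β, hβ⟩ : ∃ β : k, Z' * Z' = β • 1 := ⟨-3 + b / 6 * b + b / 6 * (b / 6) * (-3), by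
    rw [hZ']; simp only [mul_add, add_mul, mul_smul_comm, smul_mul_assoc, hX, hZ, hZX]; module⟩
  obtain ⟨γ, hγ⟩ : ∃ γ : k, Y' * Z' + Z' * Y' = γ • 1 :=
    ⟨c + b / 6 * a + a / 6 * b + a / 6 * (b / 6) * (-6), by
    rw [hY', hZ']; simp only [mul_add, add_mul, mul_smul_comm, smul_mul_assoc, hX, hZY, hYX, hZX]; module⟩
  have eig : ∀ {P : Module.End k V} {W : Submodule k V}, W ≠ ⊥ → (∀ v ∈ W, P v ∈ W) →
      ∃ (ξ : k), ∃ v ∈ W, v ≠ 0 ∧ P v = ξ • v := by
    intro P W hW hP
    haveI : Nontrivial W := Submodule.nontrivial_iff_ne_bot.mpr hW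
    obtain ⟨ξ, hξ⟩ := Module.End.exists_eigenvalue (P.restrict hP)
    obtain ⟨w, hw⟩ := hξ.exists_hasEigenvector
    exact ⟨ξ, w, w.2, fun e => hw.2 (Subtype.ext e), congrArg Subtype.val hw.apply_eq_smul⟩
  have build : ∀ (e f : V) (ξ s t u w : k), e ≠ 0 → X e = ξ • e → X f = (-ξ) • f → Y' e = s • f → Z' e = t • f →
      Y' f = u • e → Z' f = w • e →
      ∃ U : Submodule k V, U ≠ ⊥ ∧ Module.finrank k U ≤ 2 ∧ (∀ v ∈ U, X v ∈ U) ∧ (∀ v ∈ U, Y v ∈ U) ∧
        ∀ v ∈ U, Z v ∈ U := by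
    intro e f ξ s t u w he hXe hXf hYe hZe hYf hZf
    have inv : ∀ P : Module.End k V, P e ∈ Submodule.span k {e, f} → P f ∈ Submodule.span k {e, f} →
        ∀ v ∈ Submodule.span k {e, f}, P v ∈ Submodule.span k {e, f} := fun P h1 h2 v hv => by
      obtain ⟨m, n, rfl⟩ := Submodule.mem_span_pair.mp hv
      rw [map_add, map_smul, map_smul]
      exact add_mem (Submodule.smul_mem _ _ h1) (Submodule.smul_mem _ _ h2)
    have me : e ∈ Submodule.span k {e, f} := Submodule.subset_span (by simp)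
    have mf : f ∈ Submodule.span k {e, f} := Submodule.subset_span (by simp)
    have iX := inv X (hXe ▸ Submodule.smul_mem _ _ me) (hXf ▸ Submodule.smul_mem _ _ mf)
    have iY := inv Y' (hYe ▸ Submodule.smul_mem _ _ mf) (hYf ▸ Submodule.smul_mem _ _ me)
    have iZ := inv Z' (hZe ▸ Submodule.smul_mem _ _ mf) (hZf ▸ Submodule.smul_mem _ _ me)
    refine ⟨_, fun h => he ((Submodule.mem_bot k).mp (h ▸ me)), ?_, iX, fun v hv => ?_, fun v hv => ?_⟩
    · classical
      have := finrank_span_finset_le_card (R := k) ({e, f} : Finset V)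
      rw [Finset.coe_insert, Finset.coe_singleton] at this
      exact this.trans Finset.card_le_two
    · have : Y v = Y' v - (a / 6) • X v := by rw [hY']; simp
      rw [this]; exact sub_mem (iY v hv) (Submodule.smul_mem _ _ (iX v hv))
    · have : Z v = Z' v - (b / 6) • X v := by rw [hZ']; simp
      rw [this]; exact sub_mem (iZ v hv) (Submodule.smul_mem _ _ (iX v hv))
  by_cases hα0 : α = 0
  · obtain ⟨ξ, e, hek, he, hXe⟩ := eig (W := LinearMap.ker Y') (P := X) (by
      intro h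
      obtain ⟨v, hv⟩ := exists_ne (0 : V)
      have hinj := LinearMap.ker_eq_bot.mp h
      refine hv (hinj (hinj ?_))
      rw [map_zero, map_zero, ← Module.End.mul_apply, hα, hα0, zero_smul, LinearMap.zero_apply]) (fun v hv => by
      rw [LinearMap.mem_ker] at hv ⊢
      have h := LinearMap.congr_fun eY v
      rw [Module.End.mul_apply, LinearMap.neg_apply, Module.End.mul_apply, hv, map_zero] at h
      exact neg_eq_zero.mp h.symm)
    rw [LinearMap.mem_ker] at hek
    refine build e (Z' e) ξ 0 1 γ β he hXe ?_ (by rw [hek, zero_smul]) (by rw [one_smul]) ?_ ?_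
    · have h := LinearMap.congr_fun eZ e
      rw [Module.End.mul_apply, LinearMap.neg_apply, Module.End.mul_apply, hXe, map_smul] at h
      rw [h, neg_smul]
    · have h := LinearMap.congr_fun hγ e
      rwa [LinearMap.add_apply, Module.End.mul_apply, Module.End.mul_apply, hek, map_zero, add_zero,
        LinearMap.smul_apply, Module.End.one_apply] at h
    · rw [← Module.End.mul_apply, hβ, LinearMap.smul_apply, Module.End.one_apply]
  · obtain ⟨ξ₀, hξ₀⟩ := Module.End.exists_eigenvalue X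
    have hcomm : X * (Y' * Z') = Y' * Z' * X := by
      rw [← mul_assoc, eY, neg_mul, mul_assoc, eZ, mul_neg, neg_neg, mul_assoc]
    obtain ⟨μ, e, heX, he, hPe⟩ := eig (W := X.eigenspace ξ₀) (P := Y' * Z') hξ₀ (fun v hv => by
      rw [Module.End.mem_eigenspace_iff] at hv ⊢
      rw [← Module.End.mul_apply, hcomm, Module.End.mul_apply, hv, map_smul])
    have hXe := Module.End.mem_eigenspace_iff.mp heX
    have hZe : Z' e = (μ / α) • Y' e := by
      have h := congrArg Y' hPe
      rw [Module.End.mul_apply, map_smul, ← Module.End.mul_apply Y' Y', hα, LinearMap.smul_apply,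
        Module.End.one_apply] at h
      rw [div_eq_inv_mul, ← smul_smul, ← h, smul_smul, inv_mul_cancel₀ hα0, one_smul]
    refine build e (Y' e) ξ₀ 1 (μ / α) α (γ - μ) he hXe ?_ (by rw [one_smul]) hZe ?_ ?_
    · have h := LinearMap.congr_fun eY e
      rw [Module.End.mul_apply, LinearMap.neg_apply, Module.End.mul_apply, hXe, map_smul] at h
      rw [h, neg_smul]
    · rw [← Module.End.mul_apply, hα, LinearMap.smul_apply, Module.End.one_apply]
    · have h := LinearMap.congr_fun hγ e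
      rw [LinearMap.add_apply, hPe, Module.End.mul_apply, LinearMap.smul_apply, Module.End.one_apply] at h
      rw [sub_smul]; exact eq_sub_of_add_eq' h

end CfsgLib.Zassenhaus
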