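import Cfsg.Agent.Lib.Zassenhaus.Main
import Cfsg.Agent.S3378

/-!
Zassenhaus' structure theorem for non-solvable groups with fixed-point-free representations.
-/

set_option autoImplicit false
set_option linter.style.haveILetI false
set_option linter.unusedSectionVars false

namespace CfsgLib.Zassenhaus

universe u

variable {r : ℕ} [Fact r.Prime] {G : Type u} [Group G] [Finite G] {V : Type*} [AddCommGroup V]
  [Module (AlgebraicClosure (ZMod r)) V] [FiniteDimensional (AlgebraicClosure (ZMod r)) V] [Nontrivial V]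
  {ρ : G →* Module.End (AlgebraicClosure (ZMod r)) V}

theorem a5_not_solvable : ¬ Group.IsSolvable (alternatingGroup (Fin 5)) := fun h => by
  haveI := h
  exact Equiv.Perm.not_isSolvable_fin_5 (Group.isSolvable_of_ker_le_range (alternatingGroup (Fin 5)).subtype
    Equiv.Perm.sign (fun g hg => ⟨⟨g, Equiv.Perm.mem_alternatingGroup.mpr hg⟩, rfl⟩))

theorem a5_exponent_four : ∀ a : alternatingGroup (Fin 5), a ^ 4 = 1 → a ^ 2 = 1 := by decide +kernel

/-- The subgroup of type five, with a generating triangle. -/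
theorem Good.core (hg : Good r ρ) (hns : ¬ Group.IsSolvable G) :
    ∃ I : Subgroup G, Poly I 5 ∧ I.Normal ∧ Nat.card I = 120 ∧ (∀ g : G, orderOf g = 3 → g ∈ I) ∧
      ∃ x y z : G, R x y ∧ R x z ∧ R y z ∧ Subgroup.closure ({x, y, z} : Set G) = I := by
  obtain ⟨I, hI⟩ := hg.exists_five hns
  obtain ⟨hn, hc, hall⟩ := hg.five_all hI
  refine ⟨I, hI, hn, hc, hall, ?_⟩
  obtain ⟨f, hs, hker⟩ := id hI
  obtain ⟨a, ta⟩ : ∃ a : alternatingGroup (Fin 5), Three a := by decide +kernel
  obtain ⟨b, tb, hb⟩ := a5_nbr a ta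
  obtain ⟨c, tc, hac, hbc⟩ := a5_common a ta b tb hb
  obtain ⟨x, ox, rfl⟩ := lift_three hker hs ta
  obtain ⟨y, oy, rfl⟩ := lift_three hker hs tb
  obtain ⟨z, oz, rfl⟩ := lift_three hker hs tc
  have hxy := R_coe.mpr ((rel_iff hker ox oy).mp hb)
  have hxz := R_coe.mpr ((rel_iff hker ox oz).mp hac)
  have hyz := R_coe.mpr ((rel_iff hker oy oz).mp hbc)
  exact ⟨x, y, z, hxy, hxz, hyz, hg.five_eq (hg.five_of_triangle hxy hxz hyz) hI ((Subgroup.closure_le _).mpr (by
      rintro s (rfl | rfl | rfl)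
      exacts [x.2, y.2, z.2]))⟩

/-- The subgroup of type five is `SL(2,5)`. -/
theorem Good.iso_five (hg : Good r ρ) {I : Subgroup G} (hI : Poly I 5) :
    Nonempty (I ≃* Matrix.SpecialLinearGroup (Fin 2) (ZMod 5)) := by
  have hc := hg.card_five hI
  obtain ⟨f, hs, hker⟩ := hI
  refine Cfsg.Agent.S3378.result.1 I hc (fun h => ?_) fun P => ?_
  · haveI := h
    exact a5_not_solvable (Group.isSolvable_of_surjective hs)
  · haveI := Fact.mk Nat.prime_two
    have hP8 : Nat.card (P : Subgroup I) = 8 := by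
      rw [P.card_eq_multiplicity, hc, show (120 : ℕ).factorization 2 = 3 by
        rw [Nat.factorization_def _ Nat.prime_two, show (120 : ℕ) = 2 ^ 3 * 15 by norm_num,
          padicValNat.mul (by norm_num) (by norm_num), padicValNat.prime_pow,
          padicValNat.eq_zero_of_not_dvd (by norm_num)]]
      rfl
    rcases CfsgLib.Frob.cyclic_or_quaternion_two P.2 ((hg.subgroup I).fpf.uniqSub P.2) with hc' | ⟨n, ⟨e⟩⟩
    · exfalso
      obtain ⟨g, hgg⟩ := IsCyclic.exists_ofOrder_eq_natCard (α := (P : Subgroup I))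
      rw [hP8, ← Subgroup.orderOf_coe] at hgg
      obtain ⟨b, hb⟩ : ∃ b : I, b = (g : I) := ⟨_, rfl⟩
      rw [← hb] at hgg
      have h4 : f b ^ 4 = 1 := by
        rw [← map_pow]
        exact (hker _).mpr (Or.inr (by rw [orderOf_pow' _ (by norm_num), hgg]; rfl))
      rcases (hker (b ^ 2)).mp (by rw [map_pow]; exact a5_exponent_four _ h4) with h | h
      · have := orderOf_dvd_of_pow_eq_one h
        rw [hgg] at this
        exact absurd (Nat.le_of_dvd (by norm_num) this) (by norm_num)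
      · rw [orderOf_pow' _ (by norm_num), hgg] at h
        exact absurd h (by decide)
    · have h1 := Nat.card_congr e.toEquiv
      rw [hP8, Nat.card_eq_fintype_card, QuaternionGroup.card] at h1
      have hn : n = 1 := by
        refine Nat.pow_right_injective (le_refl 2) ?_
        show 2 ^ n = 2 ^ 1
        omega
      subst hn
      exact ⟨e⟩

theorem orderOf_two_unique {I : Subgroup G} (hg : Good r ρ) {t g : G} (ht : orderOf t = 2) :
    Commute g t := by
  have h := hg.fpf.involution_unique (g := g * t * g⁻¹) (orderOf_conj.trans ht) ht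
  exact mul_inv_eq_iff_eq_mul.mp h

/-- Zassenhaus' theorem. -/
theorem Good.zassenhaus (hg : Good r ρ) (hns : ¬ Group.IsSolvable G) :
    ∃ I M : Subgroup G, I.Normal ∧ M.Normal ∧ Nonempty (I ≃* Matrix.SpecialLinearGroup (Fin 2) (ZMod 5)) ∧
      I ⊓ M = ⊥ ∧ (∀ s ∈ I, ∀ x ∈ M, s * x = x * s) ∧ ((I ⊔ M).index = 1 ∨ (I ⊔ M).index = 2) ∧
      (∀ (p : ℕ) [Fact p.Prime] (P : Sylow p M), IsCyclic P) ∧ (Nat.card M).Coprime 30 := by
  classical
  haveI := Fact.mk Nat.prime_two
  obtain ⟨I, hI, hIn, hIc, hall, x, y, z, hxy, hxz, hyz, htri⟩ := hg.core hns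
  obtain ⟨f, hs, hker⟩ := id hI
  let C := Subgroup.centralizer (I : Set G)
  haveI := hIn
  haveI hCn : C.Normal := inferInstance
  have hxI : x ∈ I := htri ▸ Subgroup.subset_closure (by simp)
  have hyI : y ∈ I := htri ▸ Subgroup.subset_closure (by simp)
  -- the intersection with the centralizer
  obtain ⟨t0, ht0⟩ := exists_prime_orderOf_dvd_card' (G := I) 2 (by rw [hIc]; norm_num)
  obtain ⟨t, htI, ht⟩ : ∃ t ∈ I, orderOf t = 2 := ⟨t0, t0.2, by rw [Subgroup.orderOf_coe, ht0]⟩
  have htC : t ∈ C := Subgroup.mem_centralizer_iff.mpr fun a _ => (orderOf_two_unique (I := I) hg ht).eq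
  have hIC : ∀ c ∈ I, c ∈ C → c = 1 ∨ c = t := by
    intro c hcI hcC
    have hcen : f ⟨c, hcI⟩ = 1 := a5_center _ fun b => by
      obtain ⟨s, rfl⟩ := hs b
      rw [← map_mul, ← map_mul, show (⟨c, hcI⟩ : I) * s = s * ⟨c, hcI⟩ from
        Subtype.ext (Subgroup.mem_centralizer_iff.mp hcC s s.2).symm]
    rcases (hker _).mp hcen with h | h
    · exact Or.inl (congrArg Subtype.val h)
    · exact Or.inr (hg.fpf.involution_unique (by rwa [Subgroup.orderOf_mk] at h) ht)
  -- the index of the centralizer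
  have hc : ∀ (g a : G), orderOf a = 3 → g * a * g⁻¹ ∈ I ∧ orderOf (g * a * g⁻¹) = 3 :=
    fun g a ha => ⟨hall _ (orderOf_conj.trans ha), orderOf_conj.trans ha⟩
  have hCidx : C.index ≤ 120 := by
    refine (index_le_of_separates C (fun g => (⟨(f ⟨_, (hc g x hxy.1).1⟩, f ⟨_, (hc g y hxy.2.1).1⟩),
        (hg.data hker (hc g x hxy.1).1 (hc g y hxy.2.1).1 (hc g x hxy.1).2 (hc g y hxy.2.1).2).1,
        (hg.data hker (hc g y hxy.2.1).1 (hc g x hxy.1).1 (hc g y hxy.2.1).2 (hc g x hxy.1).2).1,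
        (hg.data hker (hc g x hxy.1).1 (hc g y hxy.2.1).1 (hc g x hxy.1).2 (hc g y hxy.2.1).2).2.1.mpr (hxy.conj g)⟩ :
          {p : alternatingGroup (Fin 5) × alternatingGroup (Fin 5) // Three p.1 ∧ Three p.2 ∧ Rel p.1 p.2}))
        fun g g' e => ?_).trans (by rw [Nat.card_eq_fintype_card, a5_count])
    obtain ⟨e1, e2⟩ := Prod.ext_iff.mp (congrArg Subtype.val e)
    obtain ⟨tx, rxy, ex⟩ := hg.data hker (hc g x hxy.1).1 (hc g' x hxy.1).1 (hc g x hxy.1).2 (hc g' x hxy.1).2
    obtain ⟨ty, -, ey⟩ := hg.data hker (hc g y hxy.2.1).1 (hc g' y hxy.2.1).1 (hc g y hxy.2.1).2 (hc g' y hxy.2.1).2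
    have rel : ∀ (h : G) (a b : G) (ha : orderOf a = 3) (hb : orderOf b = 3), R a b →
        Rel (f ⟨_, (hc h a ha).1⟩) (f ⟨_, (hc h b hb).1⟩) := fun h a b ha hb hab =>
      (hg.data hker (hc h a ha).1 (hc h b hb).1 (hc h a ha).2 (hc h b hb).2).2.1.mpr (hab.conj h)
    obtain ⟨tz, -, ez⟩ := hg.data hker (hc g z hxz.2.1).1 (hc g' z hxz.2.1).1 (hc g z hxz.2.1).2 (hc g' z hxz.2.1).2
    obtain ⟨tz', -, -⟩ := hg.data hker (hc g' z hxz.2.1).1 (hc g z hxz.2.1).1 (hc g' z hxz.2.1).2 (hc g z hxz.2.1).2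
    have e3 := a5_common_unique _ tx _ ty (rel g x y hxy.1 hxy.2.1 hxy) _ tz (rel g x z hxy.1 hxz.2.1 hxz)
      (rel g y z hxy.2.1 hxz.2.1 hyz) _ tz' (by dsimp only at e1; rw [e1]; exact rel g' x z hxy.1 hxz.2.1 hxz)
      (by dsimp only at e2; rw [e2]; exact rel g' y z hxy.2.1 hxz.2.1 hyz)
    have c1 := commute_of_conj_eq (ex e1)
    have c2 := commute_of_conj_eq (ey e2)
    have c3 := commute_of_conj_eq (ez e3)
    rw [show C = Subgroup.centralizer (Subgroup.closure ({x, y, z} : Set G) : Set G) by rw [htri]]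
    exact mem_centralizer_closure (by rintro s (rfl | rfl | rfl) <;> assumption)
  have hrel : C.relIndex I = 60 := by
    have hK : Nat.card (C.subgroupOf I) = 2 := by
      have e : (C.subgroupOf I : Set I) = {1, ⟨t, htI⟩} := by
        ext ⟨c, hcI⟩
        simp only [Subgroup.coe_subgroupOf, Set.mem_preimage, Subgroup.coe_subtype, SetLike.mem_coe,
          Set.mem_insert_iff, Set.mem_singleton_iff, Subtype.ext_iff, OneMemClass.coe_one]
        exact ⟨hIC c hcI, fun h => h.elim (fun e => e ▸ C.one_mem) (fun e => e ▸ htC)⟩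
      rw [← SetLike.coe_sort_coe, Nat.card_coe_set_eq, e, Set.ncard_pair]
      intro e'
      rw [← show (1 : G) = t from congrArg Subtype.val e', orderOf_one] at ht
      omega
    have h := (C.subgroupOf I).card_mul_index
    rw [hK, hIc] at h
    rw [Subgroup.relIndex]
    omega
  have hidx : (I ⊔ C).index = 1 ∨ (I ⊔ C).index = 2 := by
    have h := Subgroup.relIndex_mul_index (le_sup_right : C ≤ I ⊔ C)
    rw [Subgroup.relIndex_sup_right, hrel] at h
    have h1 : (I ⊔ C).index ≠ 0 := Subgroup.index_ne_zero_of_finite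
    omega
  -- the centralizer has no element of order three and at most two `2`-elements
  have hC2 : ∀ c ∈ C, c ^ 4 = 1 → c = 1 ∨ c = t := by
    intro c hc4 h4
    have hsq : ∀ a : G, a ^ 2 = 1 → a = 1 ∨ a = t := fun a ha => by
      by_cases h1 : a = 1
      · exact Or.inl h1
      · exact Or.inr (hg.fpf.involution_unique (orderOf_eq_prime ha h1) ht)
    rcases hsq (c ^ 2) (by rw [← pow_mul]; exact h4) with h | h
    · exact hsq c h
    · obtain ⟨a, b, hab, ha1, hb1, ha2, hb2, habc⟩ := a5_four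
      obtain ⟨i, rfl⟩ := hs a
      have hi2 : orderOf (i : G) = 4 := by
        rw [Subgroup.orderOf_coe]
        refine orderOf_eq_prime_pow (p := 2) (n := 1) ?_ ?_
        · intro hi
          by_cases h1 : i = 1
          · exact ha1 (by rw [h1, map_one])
          · exact ha1 ((hker i).mpr (Or.inr (orderOf_eq_prime (by simpa using hi) h1)))
        · rcases (hker (i ^ 2)).mp (by rw [map_pow, ha2]) with h1 | h1
          · rw [show (2 : ℕ) ^ (1 + 1) = 2 * 2 by norm_num, pow_mul, h1, one_pow]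
          · rw [show (2 : ℕ) ^ (1 + 1) = 2 * 2 by norm_num, pow_mul]
            exact orderOf_dvd_iff_pow_eq_one.mp h1.dvd
      have hit : (i : G) ^ 2 = t := hg.fpf.involution_unique (by rw [orderOf_pow' _ two_ne_zero, hi2]; rfl) ht
      have hcomm : Commute c (i : G) := (Subgroup.mem_centralizer_iff.mp hc4 i i.2).symm
      have hci : c ∈ I := by
        rcases hsq (c * i) (by rw [hcomm.mul_pow, h, hit, ← pow_two, ← ht, pow_orderOf_eq_one]) with e | e
        · rw [eq_inv_of_mul_eq_one_left e]; exact I.inv_mem i.2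
        · rw [eq_mul_inv_of_mul_eq e]; exact I.mul_mem htI (I.inv_mem i.2)
      exact hIC c hci hc4
  obtain ⟨P⟩ : Nonempty (Sylow 2 C) := inferInstance
  have hPt : ∀ p ∈ (P : Subgroup C), ((p : C) : G) = 1 ∨ ((p : C) : G) = t := by
    intro p hp
    obtain ⟨k, hk⟩ := P.2 ⟨p, hp⟩
    have hk' : (p : G) ^ 2 ^ k = 1 := by simpa using congrArg (fun w : (P : Subgroup C) => ((w : C) : G)) hk
    suffices ∀ k : ℕ, ∀ c ∈ C, c ^ 2 ^ k = 1 → c = 1 ∨ c = t from this k _ p.2 hk'
    intro k
    induction k with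
    | zero => intro c _ hc; exact Or.inl (by simpa using hc)
    | succ k ih =>
      intro c hc hk
      refine hC2 c hc ?_
      rcases ih (c ^ 2) (C.pow_mem hc 2) (by rw [← pow_mul, ← pow_succ']; exact hk) with e | e <;>
        rw [show (4 : ℕ) = 2 * 2 by norm_num, pow_mul, e]
      · rw [one_pow]
      · rw [← ht, pow_orderOf_eq_one]
  have hPcen : Subgroup.normalizer ((P : Subgroup C) : Set C) ≤ Subgroup.centralizer ((P : Subgroup C) : Set C) := by
    intro g _
    rw [Subgroup.mem_centralizer_iff]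
    intro p hp
    rcases hPt p hp with e | e
    · rw [show p = 1 from Subtype.ext e, one_mul, mul_one]
    · exact Subtype.ext (by push_cast; rw [e]; exact (orderOf_two_unique (I := I) hg ht).eq.symm)
  let M0 : Subgroup C := (MonoidHom.transferSylow P hPcen).ker
  have hcomp : Subgroup.IsComplement' M0 (P : Subgroup C) := MonoidHom.ker_transferSylow_isComplement' P hPcen
  have hodd0 : ¬ 2 ∣ Nat.card M0 := MonoidHom.not_dvd_card_ker_transferSylow P hPcen
  have hmemM : ∀ c : C, Odd (orderOf c) → c ∈ M0 := fun c hc => by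
    rw [MonoidHom.mem_ker, ← orderOf_eq_one_iff]
    have h1 : orderOf (MonoidHom.transferSylow P hPcen c) ∣ orderOf c := orderOf_map_dvd _ c
    obtain ⟨j, hj⟩ := P.2.exists_card_eq
    obtain ⟨l, -, hl⟩ := (Nat.dvd_prime_pow Nat.prime_two).mp
      (hj ▸ orderOf_dvd_natCard (MonoidHom.transferSylow P hPcen c))
    rw [hl] at h1 ⊢
    have hco : Nat.Coprime (2 ^ l) (orderOf c) := Nat.Coprime.pow_left l
      (Nat.prime_two.coprime_iff_not_dvd.mpr hc.not_two_dvd_nat)
    exact Nat.eq_one_of_dvd_coprimes hco dvd_rfl h1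
  let M : Subgroup G := M0.map C.subtype
  have hMC : M ≤ C := Subgroup.map_subtype_le _
  have hMcard : Nat.card M = Nat.card M0 := Subgroup.card_map_of_injective C.subtype_injective
  have hMn : M.Normal := ⟨fun m hm g => by
    obtain ⟨c, hc, rfl⟩ := hm
    refine ⟨⟨g * c * g⁻¹, hCn.conj_mem _ c.2 g⟩, hmemM _ ?_, rfl⟩
    rw [Subgroup.orderOf_mk, orderOf_conj, Subgroup.orderOf_coe]
    refine Nat.not_even_iff_odd.mp fun he => hodd0 ?_
    exact (even_iff_two_dvd.mp he).trans (Subgroup.orderOf_dvd_natCard M0 hc)⟩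
  have hMI : ∀ m ∈ M, m ∈ I → m = 1 := fun m hm hmI => by
    rcases hIC m hmI (hMC hm) with e | e
    · exact e
    · refine absurd ?_ hodd0
      rw [← hMcard, ← ht, ← e]
      exact Subgroup.orderOf_dvd_natCard M hm
  have hCle : C ≤ I ⊔ M := fun c hc => by
    obtain ⟨⟨m, p⟩, hmp⟩ := hcomp.2 ⟨c, hc⟩
    rw [← show ((m : C) : G) * ((p : C) : G) = c from congrArg Subtype.val hmp]
    refine Subgroup.mul_mem _ (Subgroup.mem_sup_right (Subgroup.mem_map_of_mem _ m.2)) (Subgroup.mem_sup_left ?_)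
    rcases hPt p p.2 with e | e <;> rw [e]
    exacts [I.one_mem, htI]
  refine ⟨I, M, hIn, hMn, hg.iso_five hI, ?_, fun s hs' m hm => Subgroup.mem_centralizer_iff.mp (hMC hm) s hs',
    ?_, ?_, ?_⟩
  · rw [eq_bot_iff]
    rintro m ⟨hmI, hm⟩
    exact Subgroup.mem_bot.mpr (hMI m hm hmI)
  · rwa [show I ⊔ M = I ⊔ C from le_antisymm (sup_le_sup_left hMC I) (sup_le le_sup_left hCle)]
  · intro p hp Q
    have hQ : IsPGroup p ((Q : Subgroup M).map M.subtype) := Q.2.map _
    by_cases hp2 : p = 2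
    · subst hp2
      obtain ⟨j, hj⟩ := Q.2.exists_card_eq
      have h1 : j = 0 := by
        by_contra h
        exact hodd0 (hMcard ▸ dvd_trans (hj ▸ dvd_pow_self 2 h) (Q : Subgroup M).card_subgroup_dvd_card)
      rw [h1, pow_zero] at hj
      haveI := (Nat.card_eq_one_iff_unique.mp hj).1
      exact isCyclic_of_subsingleton
    · haveI := hg.fpf.isCyclic_of_odd hp2 hQ
      exact isCyclic_of_surjective (((Q : Subgroup M).equivMapOfInjective M.subtype M.subtype_injective).symm)
        (MulEquiv.surjective _)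
  · have key : ∀ p : ℕ, p.Prime → p ∣ 120 → p ≠ 2 → ¬ p ∣ Nat.card M := by
      intro p hp hp120 _ hd
      haveI := Fact.mk hp
      obtain ⟨m, hm⟩ := exists_prime_orderOf_dvd_card' p hd
      obtain ⟨i, hi⟩ := exists_prime_orderOf_dvd_card' (G := I) p (hIc.symm ▸ hp120)
      have hm' : orderOf (m : G) = p := by rw [Subgroup.orderOf_coe, hm]
      have hi' : orderOf (i : G) = p := by rw [Subgroup.orderOf_coe, hi]
      have hmi := hg.fpf.mem_zpowers hp hi' hm' (Subgroup.mem_centralizer_iff.mp (hMC m.2) i i.2)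
      rw [hMI m m.2 (Subgroup.zpowers_le.mpr i.2 hmi), orderOf_one] at hm'
      exact hp.ne_one hm'.symm
    rw [show (30 : ℕ) = 2 * (3 * 5) by norm_num]
    refine Nat.Coprime.mul_right ((Nat.prime_two.coprime_iff_not_dvd.mpr (hMcard ▸ hodd0)).symm)
      (Nat.Coprime.mul_right ?_ ?_)
    · exact ((Nat.prime_three.coprime_iff_not_dvd).mpr (key 3 Nat.prime_three (by norm_num) (by norm_num))).symm
    · exact ((Nat.prime_five.coprime_iff_not_dvd).mpr (key 5 Nat.prime_five (by norm_num) (by norm_num))).symm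

end CfsgLib.Zassenhaus
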