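import Cfsg.Agent.Lib.Zassenhaus.Small
import Cfsg.Agent.Lib.DicksonFull.Main

/-!
Finite fixed-point-free linear groups of degree two generated by elements of order three.
-/

set_option autoImplicit false
set_option linter.style.haveILetI false

namespace CfsgLib.Zassenhaus

open Matrix
open CfsgLib.PSL2 (mk)

variable {r : ℕ} [Fact r.Prime]

local notation "kk" => AlgebraicClosure (ZMod r)

/-- `H` maps onto `A_n`, the kernel being the identity and the involutions. -/
def Poly (H : Type*) [Group H] (n : ℕ) : Prop :=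
  ∃ f : H →* alternatingGroup (Fin n), Function.Surjective f ∧ ∀ h : H, f h = 1 ↔ h = 1 ∨ orderOf h = 2

/-- Elements of order three in a dihedral group are rotations. -/
theorem dihedral_three {n : ℕ} {d : DihedralGroup n} (h : d ^ 3 = 1) :
    d ∈ Subgroup.zpowers (DihedralGroup.r (1 : ZMod n)) := by
  match d with
  | .r i => exact ⟨i.cast, by
      show DihedralGroup.r 1 ^ (ZMod.cast i : ℤ) = _
      rw [DihedralGroup.r_one_zpow, ZMod.intCast_zmod_cast]⟩
  | .sr i =>
    exfalso
    rw [pow_succ, pow_two, DihedralGroup.sr_mul_self, one_mul] at h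
    rw [DihedralGroup.one_def] at h; cases h

/-- Degree at most two: `H` is abelian or maps onto `A₄` or `A₅` with kernel of order at most two. -/
theorem poly_of_small {H : Type*} [Group H] [Finite H] (h2 : (2 : kk) ≠ 0) (h3 : (3 : kk) ≠ 0)
    (hr : ¬ r ∣ Nat.card H) {V : Type*} [AddCommGroup V] [Module kk V] [FiniteDimensional kk V] [Nontrivial V]
    {σ : H →* Module.End kk V} (hf : Fpf σ) (S : Set H) (hS : Subgroup.closure S = ⊤)
    (hord : ∀ s ∈ S, orderOf s = 3) (hdim : Module.finrank kk V ≤ 2) :
    (∀ a b : H, a * b = b * a) ∨ Poly H 4 ∨ Poly H 5 := by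
  classical
  have hinj := hf.injective
  have hpos := Module.finrank_pos (R := kk) (M := V)
  obtain hd | hd : Module.finrank kk V = 1 ∨ Module.finrank kk V = 2 := by omega
  · refine Or.inl fun a b => hinj (LinearMap.ext fun v => ?_)
    obtain ⟨v0, hv0, hspan⟩ := finrank_eq_one_iff'.mp hd
    obtain ⟨ca, hca⟩ := hspan (σ a v0)
    obtain ⟨cb, hcb⟩ := hspan (σ b v0)
    obtain ⟨c, rfl⟩ := hspan v
    rw [map_mul, map_mul, Module.End.mul_apply, Module.End.mul_apply, map_smul, map_smul, map_smul, map_smul,
      ← hca, ← hcb, map_smul, map_smul, ← hca, ← hcb, smul_smul ca cb, smul_smul cb ca, mul_comm ca cb]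
  by_cases habel : ∀ a b : H, a * b = b * a
  · exact Or.inl habel
  let b := Module.finBasisOfFinrankEq kk V hd
  let e := LinearMap.toMatrixAlgEquiv b
  have hcomm : ∀ g : H, (∀ s ∈ S, Commute g s) → ∀ x : H, Commute g x := fun g hg x => by
    have hx : x ∈ Subgroup.closure S := hS ▸ Subgroup.mem_top x
    induction hx using Subgroup.closure_induction with
    | mem s hs => exact hg s hs
    | one => exact Commute.one_right g
    | mul a b _ _ ha hb => exact ha.mul_right hb
    | inv a _ ha => exact ha.inv_right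
  have hdet : ∀ h : H, (e (σ h)).det = 1 := by
    have hgen : ∀ s ∈ S, (e (σ s)).det = 1 := by
      intro s hs
      by_cases hsc : ∃ ζ : kk, σ s = ζ • 1
      · -- a scalar generator makes `H` abelian
        obtain ⟨ζ, hζ⟩ := hsc
        exfalso
        have hsall : ∀ x : H, Commute s x := fun x => hinj (by
          rw [map_mul, map_mul, hζ, smul_mul_assoc, mul_smul_comm, one_mul, mul_one])
        have hle : Subgroup.closure S ≤ Subgroup.zpowers s := (Subgroup.closure_le _).mpr fun t ht =>
          hf.mem_zpowers Nat.prime_three (hord s hs) (hord t ht) (hsall t)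
        rw [hS] at hle
        refine habel fun a b => ?_
        obtain ⟨i, rfl⟩ := hle (Subgroup.mem_top a)
        exact ((hsall b).zpow_left i).eq
      · have hq := hf.sum_three (hord s hs)
        obtain ⟨M, hM⟩ : ∃ M, M = e (σ s) := ⟨_, rfl⟩
        have hM2 : M * M = -M - 1 := by rw [hM, ← map_mul, hq, map_sub, map_neg, map_one]
        rw [← hM]
        have e00 := congrFun (congrFun hM2 0) 0
        have e01 := congrFun (congrFun hM2 0) 1
        have e10 := congrFun (congrFun hM2 1) 0
        have e11 := congrFun (congrFun hM2 1) 1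
        simp [Matrix.mul_apply, Fin.sum_univ_two] at e00 e01 e10 e11
        by_cases ht : M 0 0 + M 1 1 + 1 = 0
        · rw [Matrix.det_fin_two]; linear_combination e00 * (-1 : kk) + M 0 0 * ht
        · exfalso
          have z01 : M 0 1 = 0 := (mul_eq_zero.mp (show M 0 1 * (M 0 0 + M 1 1 + 1) = 0 by
            linear_combination e01)).resolve_right ht
          have z10 : M 1 0 = 0 := (mul_eq_zero.mp (show M 1 0 * (M 0 0 + M 1 1 + 1) = 0 by
            linear_combination e10)).resolve_right ht
          have heq : M 0 0 = M 1 1 := sub_eq_zero.mp ((mul_eq_zero.mp (show (M 0 0 - M 1 1) * (M 0 0 + M 1 1 + 1) = 0 by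
            linear_combination e00 - e11)).resolve_right ht)
          refine hsc ⟨M 0 0, e.injective ?_⟩
          rw [map_smul, map_one, ← hM]
          ext i j
          fin_cases i <;> fin_cases j <;> simp [z01, z10, ← heq]
    intro h
    have hh : h ∈ Subgroup.closure S := hS ▸ Subgroup.mem_top h
    induction hh using Subgroup.closure_induction with
    | mem s hs => exact hgen s hs
    | one => rw [map_one, map_one, Matrix.det_one]
    | mul a c _ _ ha hb => rw [map_mul, map_mul, Matrix.det_mul, ha, hb, one_mul]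
    | inv a _ ha =>
      have : (e (σ a⁻¹)).det * (e (σ a)).det = 1 := by
        rw [← Matrix.det_mul, ← map_mul, ← map_mul, inv_mul_cancel, map_one, map_one, Matrix.det_one]
      rwa [ha, mul_one] at this
  -- pass to a finite field
  let T : Set kk := Set.range fun x : H × Fin 2 × Fin 2 => e (σ x.1) x.2.1 x.2.2
  let K := IntermediateField.adjoin (ZMod r) T
  haveI : Finite T := (Set.finite_range _).to_subtype
  haveI : FiniteDimensional (ZMod r) K :=
    IntermediateField.finiteDimensional_adjoin fun x _ => Algebra.IsIntegral.isIntegral x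
  haveI : Finite K := Module.finite_of_finite (ZMod r)
  haveI : Fintype K := Fintype.ofFinite K
  haveI : CharP K r := charP_of_injective_algebraMap (algebraMap (ZMod r) K).injective r
  have hmem : ∀ h i j, e (σ h) i j ∈ K := fun h i j => IntermediateField.subset_adjoin _ _ ⟨(h, i, j), rfl⟩
  let M0 : H → Matrix (Fin 2) (Fin 2) K := fun h => Matrix.of fun i j => ⟨e (σ h) i j, hmem h i j⟩
  have hM0 : ∀ h, (M0 h).map (algebraMap K kk) = e (σ h) := fun h => rfl
  have hKinj : Function.Injective fun M : Matrix (Fin 2) (Fin 2) K => M.map (algebraMap K kk) :=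
    Matrix.map_injective (algebraMap K kk).injective
  let μ : H →* Matrix.SpecialLinearGroup (Fin 2) K :=
    { toFun := fun h => ⟨M0 h, (algebraMap K kk).injective (by
        rw [RingHom.map_det, RingHom.mapMatrix_apply, hM0, map_one, hdet])⟩
      map_one' := Subtype.ext (hKinj (by
        show (M0 1).map _ = (1 : Matrix (Fin 2) (Fin 2) K).map _
        rw [hM0, Matrix.map_one _ (map_zero _) (map_one _), map_one, map_one]))
      map_mul' := fun g h => Subtype.ext (hKinj (by
        show (M0 (g * h)).map _ = (M0 g * M0 h).map _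
        rw [hM0, Matrix.map_mul, hM0, hM0, map_mul, map_mul])) }
  have hμ : Function.Injective μ := fun g h he => hinj (e.injective (by
    rw [← hM0, ← hM0]; exact congrArg (fun m : Matrix.SpecialLinearGroup (Fin 2) K => m.1.map (algebraMap K kk)) he))
  have hneg : ∀ h : H, orderOf h = 2 → μ h = -1 := fun h hh => Subtype.ext (hKinj (by
    show (M0 h).map _ = ((-1 : Matrix.SpecialLinearGroup (Fin 2) K) : Matrix (Fin 2) (Fin 2) K).map _
    rw [hM0, hf.eq_neg_one hh, map_neg, map_one, Matrix.SpecialLinearGroup.coe_neg, Matrix.SpecialLinearGroup.coe_one]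
    ext i j; fin_cases i <;> fin_cases j <;> simp))
  let f := (mk.comp μ).rangeRestrict
  have hfs : Function.Surjective f := MonoidHom.rangeRestrict_surjective _
  have hker : ∀ h, f h = 1 ↔ h = 1 ∨ orderOf h = 2 := by
    intro h
    have : f h = 1 ↔ mk (μ h) = 1 := Subtype.ext_iff
    rw [this]
    constructor
    · intro he
      rcases CfsgLib.DicksonFull.mk_eq_one he with e1 | e1
      · exact Or.inl (hμ (e1.trans μ.map_one.symm))
      · by_cases h1 : h = 1
        · exact Or.inl h1
        · refine Or.inr (orderOf_eq_prime (hμ ?_) h1)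
          rw [map_pow, e1, map_one, neg_one_sq]
    · rintro (rfl | hh)
      · rw [map_one, map_one]
      · rw [hneg h hh, CfsgLib.DicksonFull.mk_neg, map_one]
  have hcen : f.ker ≤ Subgroup.center H := fun h hh => by
    rcases (hker h).mp hh with rfl | h2'
    · exact one_mem _
    · refine Subgroup.mem_center_iff.mpr fun g => hμ ?_
      rw [map_mul, map_mul, hneg h h2', mul_neg, neg_mul, one_mul, mul_one]
  have hcyc : ∀ {C : Type} [Group C], ∀ φ : (mk.comp μ).range →* C, Function.Injective φ →
      (∃ D : Subgroup C, IsCyclic D ∧ ∀ s ∈ S, φ (f s) ∈ D) → False := by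
    intro C _ φ hφ ⟨D, hD, hSD⟩
    have hall : ∀ h, φ (f h) ∈ D := fun h => by
      have hh : h ∈ Subgroup.closure S := hS ▸ Subgroup.mem_top h
      have hle : Subgroup.closure S ≤ D.comap (φ.comp f) := (Subgroup.closure_le _).mpr hSD
      exact hle hh
    refine habel (commutative_of_cyclic_center_quotient ((φ.comp f).codRestrict D hall) fun h hh => hcen ?_)
    rw [MonoidHom.mem_ker] at hh ⊢
    exact hφ ((congrArg Subtype.val hh).trans φ.map_one.symm)
  have hnr : ∀ u ∈ (mk.comp μ).range, orderOf u ≠ r := by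
    intro u hu he
    refine hr ?_
    obtain ⟨h, rfl⟩ := hu
    rw [← he]
    exact (orderOf_map_dvd (mk.comp μ) h).trans (orderOf_dvd_natCard h)
  have hs3 : ∀ s ∈ S, s ^ 3 = 1 := fun s hs => by rw [← hord s hs]; exact pow_orderOf_eq_one s
  rcases CfsgLib.DicksonFull.kind_semisimple (CfsgLib.DicksonFull.psl (F := K) r) (H := (mk.comp μ).range) hnr with
    h | ⟨x, hx, hxH, h⟩ | ⟨x, hx, hxH, ⟨h⟩⟩ | ⟨⟨h⟩⟩ | ⟨⟨h⟩⟩ | ⟨⟨h⟩⟩ | ⟨u, huH, hu, h⟩ | ⟨u, v, huH, hu⟩
  · exfalso
    refine habel fun a c => ?_
    have ha : a ∈ f.ker := Subtype.ext (Subgroup.mem_bot.mp (h ▸ (f a).2))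
    exact (Subgroup.mem_center_iff.mp (hcen ha) c).symm
  · exfalso
    haveI := (CfsgLib.DicksonFull.psl (F := K) r).T_cyclic x hx
    haveI : IsCyclic (mk.comp μ).range := Subgroup.isCyclic_of_le h
    exact habel (commutative_of_cyclic_center_quotient f hcen)
  · exfalso
    refine hcyc h.toMonoidHom h.injective ⟨Subgroup.zpowers (DihedralGroup.r 1), inferInstance, fun s hs => ?_⟩
    refine dihedral_three ?_
    rw [← map_pow, ← map_pow, hs3 s hs, map_one, map_one]
  · exact Or.inr (Or.inl ⟨h.toMonoidHom.comp f, h.surjective.comp hfs, fun g => by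
      rw [MonoidHom.comp_apply, MulEquiv.coe_toMonoidHom, h.map_eq_one_iff]; exact hker g⟩)
  · exfalso
    obtain ⟨g, hg⟩ := (h.surjective.comp hfs) (Equiv.swap 0 1)
    have hall : g ∈ (Equiv.Perm.sign.comp (h.toMonoidHom.comp f)).ker := by
      refine (Subgroup.closure_le _).mpr (fun s hs => ?_) (hS ▸ Subgroup.mem_top g)
      rw [SetLike.mem_coe, MonoidHom.mem_ker]
      have h1 : (Equiv.Perm.sign.comp (h.toMonoidHom.comp f)) s ^ 3 = 1 := by rw [← map_pow, hs3 s hs, map_one]
      rcases Int.units_eq_one_or ((Equiv.Perm.sign.comp (h.toMonoidHom.comp f)) s) with e1 | e1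
      · exact e1
      · rw [e1] at h1; exact absurd h1 (by decide)
    rw [MonoidHom.mem_ker, MonoidHom.comp_apply, MonoidHom.comp_apply, MulEquiv.coe_toMonoidHom] at hall
    rw [show h (f g) = Equiv.swap 0 1 from hg, Equiv.Perm.sign_swap (by decide)] at hall
    exact absurd hall (by decide)
  · exact Or.inr (Or.inr ⟨h.toMonoidHom.comp f, h.surjective.comp hfs, fun g => by
      rw [MonoidHom.comp_apply, MulEquiv.coe_toMonoidHom, h.map_eq_one_iff]; exact hker g⟩)
  · exact absurd hu (hnr u huH)
  · exact absurd hu (hnr u huH)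

end CfsgLib.Zassenhaus
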